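import Cfsg.Agent.Lib.AltE8.Form

/-!
# Reduction of torsion points of the torus of type E8 to the fundamental alcove

* `alcove`      : a property of the labels that fails on the alcove fails everywhere;
* `zeros_three` : a nonzero point of order three is killed by at most 126 roots;
* `no_uniform`  : no nonzero point of order seventeen has labels permuted by multiplication by three.
-/

set_option autoImplicit false
set_option maxRecDepth 100000

namespace Cfsg.Agent.AltE8

open Cfsg.Lie Cfsg.Lie.ChevalleyDatum Cfsg.Agent.Chev Cfsg.Agent.ChevBN Cfsg.Agent.ChevSt Cfsg.Agent.ChevLang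

variable {s : ℕ}

/-- The labels of a point. -/
def labM (v : Fin 8 → ZMod s) : Multiset (ZMod s) :=
  (Multiset.range 240).map fun r => ∑ j : Fin 8, (chevE8.cartan j.val r : ZMod s) * v j

/-- The marks. -/
def marks : List ℕ := [2, 3, 4, 6, 5, 4, 3, 2]

/-- Vectors of bounded weighted sum. -/
def box : List ℕ → ℕ → List (List ℕ)
  | [], _ => [[]]
  | w :: ws, b => (List.range (b / w + 1)).flatMap fun x => (box ws (b - x * w)).map (x :: ·)

theorem mem_box : ∀ (ws : List ℕ) (l : List ℕ) (b : ℕ), l.length = ws.length → (∀ w ∈ ws, 0 < w) →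
    (List.zipWith (· * ·) l ws).sum ≤ b → l ∈ box ws b := by
  intro ws
  induction ws with
  | nil => intro l b hl _ _; simp [box, List.length_eq_zero_iff.1 hl]
  | cons w ws ih =>
    intro l b hl hw hs
    obtain ⟨x, l, rfl⟩ := List.exists_cons_of_length_eq_add_one hl
    simp only [List.zipWith_cons_cons, List.sum_cons] at hs
    simp only [box, List.mem_flatMap, List.mem_map, List.mem_range]
    refine ⟨x, ?_, l, ih l _ (by simpa using hl) (fun w' h => hw w' (List.mem_cons_of_mem _ h)) (by omega), rfl⟩
    rw [Nat.lt_succ_iff, Nat.le_div_iff_mul_le (hw w List.mem_cons_self)]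
    omega

/-- The coordinates of the point with given values on the fundamental roots. -/
def xOf (m : List ℕ) : List ℤ := adjE8.map fun row => (List.zipWith (fun (a : ℤ) (b : ℕ) => a * b) row m).sum

/-- The labels of an alcove point. -/
def labOf (s : ℕ) (m : List ℕ) : List (ZMod s) :=
  cartTab.map fun c => (((List.range 8).map fun j => c.getD j 0 * (xOf m).getD j 0).sum : ℤ)

theorem adj_gram : ∀ j l : Fin 8, ∑ k : Fin 8, ent adjE8 j.val k.val * ent gram k.val l.val = if j = l then 1 else 0 := by
  decide +kernel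

/-- The half sum of the coroots and the highest coroot. -/
def rho : Fin 8 → ℤ := ![46, 68, 91, 135, 110, 84, 57, 29]

/-- The highest coroot. -/
def theta : Fin 8 → ℤ := ![2, 3, 4, 6, 5, 4, 3, 2]

theorem rho_theta : (∀ k : Fin 8, ∑ j, rho j * ent gram k.val j.val = 1) ∧
    (∑ i, theta i * ∑ j, theta j * ent gram i.val j.val = 2) ∧ (∑ i : Fin 8, theta i = 29) := by
  decide +kernel

/-- A property of the labels failing on the alcove fails everywhere. -/
theorem alcove (hs : 0 < s) (P : Multiset (ZMod s) → Prop)
    (hcheck : ∀ m ∈ box marks s, ¬ P ↑(labOf s m)) (v : Fin 8 → ZMod s) : ¬ P (labM v) := by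
  classical
  haveI : NeZero s := ⟨hs.ne'⟩
  intro hv
  let red : (Fin 8 → ℤ) → Fin 8 → ZMod s := fun x j => (x j : ZMod s)
  have hlab : ∀ x, labM (red x) = (Multiset.range 240).map fun r => ((val x r : ℤ) : ZMod s) := fun x => by
    refine Multiset.map_congr rfl fun r _ => ?_
    simp only [red, val, Int.cast_sum, Int.cast_mul]
    exact Finset.sum_congr rfl fun j _ => mul_comm _ _
  let G : (Fin 8 → ℤ) → ℕ := fun x => (S2 ((30 : ℤ) • x - rho) ((30 : ℤ) • x - rho)).toNat
  have hex : ∃ n, ∃ x, P (labM (red x)) ∧ G x = n :=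
    ⟨_, fun j => (v j).val, by
      have : red (fun j => ((v j).val : ℤ)) = v := funext fun j => by simp [red]
      rw [this]; exact hv, rfl⟩
  obtain ⟨x, hx, hGx⟩ := Nat.find_spec hex
  have hmin : ∀ x', P (labM (red x')) → G x ≤ G x' := fun x' h' => hGx ▸ Nat.find_min' hex ⟨x', h', rfl⟩
  have hnn : ∀ z, 0 ≤ S2 z z := fun z => Finset.sum_nonneg fun r _ => mul_self_nonneg _
  set y := (30 : ℤ) • x - rho with hy
  have hcmp : ∀ (c : ℤ) (e : Fin 8 → ℤ), P (labM (red (x + c • e))) →
      0 ≤ 2 * (30 * c) * S2 e y + (30 * c) ^ 2 * S2 e e := by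
    intro c e h'
    have h1 := hmin _ h'
    have e1 : (30 : ℤ) • (x + c • e) - rho = (30 * c) • e + y := by
      funext j; simp [hy]; ring
    have e2 : S2 ((30 * c) • e + y) ((30 * c) • e + y) =
        (30 * c) ^ 2 * S2 e e + 2 * (30 * c) * S2 e y + S2 y y := by
      rw [S2_add_left, S2_smul_left, S2_comm e ((30 * c) • e + y), S2_comm y ((30 * c) • e + y), S2_add_left,
        S2_add_left, S2_smul_left, S2_smul_left, S2_comm y e]
      ring
    simp only [G, e1, e2, ← hy] at h1
    have h2 := hnn y
    have h3 := hnn ((30 * c) • e + y)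
    rw [e2] at h3
    omega
  set m : Fin 8 → ℤ := fun k => val x (chevE8.simple k.val) with hm
  have hval_y : ∀ k : Fin 8, val y (chevE8.simple k.val) = 30 * m k - 1 := fun k => by
    rw [hy, val_sub, val_smul]
    congr 1
    rw [val, ← rho_theta.1 k]
    exact Finset.sum_congr rfl fun j _ => by rw [gram_entry]
  -- reflections
  have hpos : ∀ k : Fin 8, 0 ≤ m k := by
    intro k
    let e : Fin 8 → ℤ := Pi.single k 1
    have he : ∀ r, val e r = chevE8.cartan k.val r := fun r => by
      rw [val, Finset.sum_eq_single k (fun j _ hj => by simp [e, hj]) (by simp)]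
      simp [e]
    have hP' : P (labM (red (x + (-m k) • e))) := by
      have hbij : ∀ r < 240, val (x + (-m k) • e) r = val x (wN chevE8 k.val r) := by
        intro r hr
        rw [val_add, val_smul, he, val, val]
        have hstep : ∀ j : Fin 8, chevE8.cartan j.val (wN chevE8 k.val r) =
            chevE8.cartan j.val r - chevE8.cartan k.val r * chevE8.cartan j.val (chevE8.simple k.val) := fun j => by
          rw [wN, (isLin_cartan good8 j.isLt).refl good8 (good8.simple_lt _ k.isLt) hr, pairing_simple good8 k.isLt]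
        simp only [hstep, mul_sub, Finset.sum_sub_distrib, hm, val, neg_mul, Finset.sum_mul]
        rw [sub_eq_add_neg]
        congr 2
        exact Finset.sum_congr rfl fun j _ => by ring
      have e1 : labM (red (x + (-m k) • e)) = labM (red x) := by
        rw [hlab, hlab, Multiset.map_congr rfl fun r hr => congrArg (fun z : ℤ => (z : ZMod s))
          (hbij r (Multiset.mem_range.1 hr))]
        rw [show (fun r => ((val x (wN chevE8 k.val r) : ℤ) : ZMod s)) =
          (fun r => ((val x r : ℤ) : ZMod s)) ∘ wN chevE8 k.val from rfl, ← Multiset.map_map]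
        congr 1
        have hlt : ∀ r < 240, wN chevE8 k.val r < 240 := fun r hr => refl_lt good8 (good8.simple_lt _ k.isLt) hr
        have hinv : ∀ r < 240, wN chevE8 k.val (wN chevE8 k.val r) = r := fun r hr =>
          refl_refl good8 (good8.simple_lt _ k.isLt) hr
        have himg : (Finset.range 240).image (wN chevE8 k.val) = Finset.range 240 :=
          Finset.ext fun r => by
            simp only [Finset.mem_image, Finset.mem_range]
            exact ⟨fun ⟨t, ht, e⟩ => e ▸ hlt t ht, fun h => ⟨_, hlt r h, hinv r h⟩⟩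
        have h := Finset.image_val_of_injOn (s := Finset.range 240) (f := wN chevE8 k.val) fun a ha b hb e => by
          rw [← hinv a (Finset.mem_range.1 ha), e, hinv b (Finset.mem_range.1 hb)]
        rw [himg] at h
        exact h.symm
      rw [e1]; exact hx
    have h := hcmp _ e hP'
    have hee : S2 e e = 120 := by
      rw [S2_eq, Finset.sum_eq_single k (fun j _ hj => by simp [e, hj]) (by simp), he, show e k = 1 from Pi.single_eq_same k 1,
        ← pairing_simple good8 k.isLt, good8.pairing_self _ (good8.simple_lt _ k.isLt)]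
      norm_num
    have hey : S2 e y = 60 * (30 * m k - 1) := by
      rw [S2_eq, Finset.sum_eq_single k (fun j _ hj => by simp [e, hj]) (by simp), hval_y, show e k = 1 from Pi.single_eq_same k 1]
      ring
    rw [hee, hey] at h
    nlinarith
  -- the highest root
  have hL : ∑ i, theta i * m i ≤ (s : ℤ) := by
    have hP' : P (labM (red (x + (-(s : ℤ)) • theta))) := by
      have : red (x + (-(s : ℤ)) • theta) = red x := funext fun j => by simp [red]
      rw [this]; exact hx
    have h := hcmp _ theta hP'
    have hty : S2 theta y = 60 * (30 * ∑ i, theta i * m i - 29) := by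
      rw [S2_eq]
      simp only [hval_y]
      rw [← rho_theta.2.2, Finset.mul_sum, ← Finset.sum_sub_distrib, Finset.mul_sum]
      exact Finset.sum_congr rfl fun i _ => by ring
    have htt : S2 theta theta = 120 := by
      rw [S2_eq]
      have e : ∀ i : Fin 8, val theta (chevE8.simple i.val) = ∑ j, theta j * ent gram i.val j.val := fun i => by
        rw [val]
        exact Finset.sum_congr rfl fun j _ => by rw [gram_entry]
      simp only [e]
      rw [show (120 : ℤ) = 60 * ∑ i, theta i * ∑ j, theta j * ent gram i.val j.val by rw [rho_theta.2.1]; norm_num,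
        Finset.mul_sum]
      exact Finset.sum_congr rfl fun i _ => by ring
    rw [hty, htt] at h
    have hs' : (0 : ℤ) < s := by exact_mod_cast hs
    nlinarith
  -- the alcove point
  set l : List ℕ := List.ofFn fun k => (m k).toNat with hl
  have hmem : l ∈ box marks s := by
    refine mem_box marks l s (by simp [hl, marks]) (by decide) ?_
    have hsum : (((List.zipWith (· * ·) l marks).sum : ℕ) : ℤ) = ∑ i, theta i * m i := by
      simp only [hl, marks, List.ofFn_succ, List.ofFn_zero, List.zipWith_cons_cons, List.zipWith_nil_left, List.sum_cons,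
        List.sum_nil, theta, Fin.sum_univ_eight]
      push_cast
      simp only [Int.toNat_of_nonneg, hpos]
      simp
      ring
    omega
  refine hcheck l hmem ?_
  have hxj : ∀ j : Fin 8, (xOf l).getD j.val 0 = x j := by
    intro j
    have e : (xOf l).getD j.val 0 = ∑ k : Fin 8, ent adjE8 j.val k.val * m k := by
      fin_cases j <;>
        simp [xOf, adjE8, hl, ent, Fin.sum_univ_eight, Int.toNat_of_nonneg, hpos, List.ofFn_succ] <;> ring
    rw [e]
    have e1 : ∀ k : Fin 8, m k = ∑ i : Fin 8, x i * ent gram k.val i.val := fun k => by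
      simp only [hm, val]
      exact Finset.sum_congr rfl fun i _ => by rw [gram_entry]
    simp only [e1, Finset.mul_sum]
    rw [Finset.sum_comm]
    calc _ = ∑ i : Fin 8, x i * ∑ k : Fin 8, ent adjE8 j.val k.val * ent gram k.val i.val :=
          Finset.sum_congr rfl fun i _ => by rw [Finset.mul_sum]; exact Finset.sum_congr rfl fun k _ => by ring
      _ = x j := by simp [adj_gram]
  convert hx using 1
  rw [hlab, labOf, ← cartTab_eq, List.map_map, ← Multiset.coe_range, Multiset.map_coe]
  refine congrArg _ (List.map_congr_left fun r _ => ?_)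
  simp only [Function.comp_apply]
  congr 1
  rw [← List.sum_toFinset _ List.nodup_range, List.toFinset_range, Finset.sum_range, val]
  exact Finset.sum_congr rfl fun j _ => by rw [row_getD, hxj, mul_comm]

theorem check_three : ∀ m ∈ box marks 3, ¬ ((∃ a ∈ (↑(labOf 3 m) : Multiset (ZMod 3)), a ≠ 0) ∧
    126 < Multiset.count 0 (↑(labOf 3 m) : Multiset (ZMod 3))) := by
  decide +kernel

theorem sum_roots_cast (g : List ℤ → ZMod s) :
    ∑ r ∈ Finset.range 240, g ((List.range 8).map fun j => chevE8.cartan j r) = (cartTab.map g).sum := by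
  rw [← cartTab_eq, List.map_map, ← List.sum_toFinset _ List.nodup_range, List.toFinset_range]
  rfl

/-- The quadratic form. -/
def qf (x : List ℤ) : ℤ :=
  ((List.range 8).map fun k => x.getD k 0 * ((List.range 8).map fun i => (gram.getD k []).getD i 0 * x.getD i 0).sum).sum

/-- The sum of the squares of the labels of a point. -/
theorem sq_labOf (m : List ℕ) : ((labOf s m).map (· ^ 2)).sum = ((60 * qf (xOf m) : ℤ) : ZMod s) := by
  obtain ⟨x, hx⟩ : ∃ x : Fin 8 → ℤ, x = fun j : Fin 8 => (xOf m).getD j.val 0 := ⟨_, rfl⟩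
  have e2 : 60 * qf (xOf m) = S2 x x := by
    rw [S2_eq, qf, ← List.sum_toFinset _ List.nodup_range, List.toFinset_range, Finset.sum_range, Finset.mul_sum]
    refine Finset.sum_congr rfl fun k _ => ?_
    rw [← List.sum_toFinset _ List.nodup_range, List.toFinset_range, Finset.sum_range, val, hx]
    have : ∀ i : Fin 8, (gram.getD k.val []).getD i.val 0 = chevE8.cartan i.val (chevE8.simple k.val) := fun i =>
      gram_entry k i
    simp only [this, Finset.mul_sum]
    exact Finset.sum_congr rfl fun i _ => by ring
  have hlab : ∀ r < 240, ((List.range 8).map fun j => ((List.range 8).map fun i => chevE8.cartan i r).getD j 0 *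
      (xOf m).getD j 0).sum = val x r := fun r _ => by
    rw [← List.sum_toFinset _ List.nodup_range, List.toFinset_range, Finset.sum_range, val, hx]
    exact Finset.sum_congr rfl fun j _ => by rw [row_getD, mul_comm]
  rw [e2, labOf, List.map_map, ← sum_roots_cast, S2, Int.cast_sum]
  refine Finset.sum_congr rfl fun r hr => ?_
  simp only [Function.comp_apply]
  rw [hlab r (Finset.mem_range.1 hr), Int.cast_mul, sq]

/-- The inverse Cartan matrix, in natural numbers. -/
def adjN : List (List ℕ) := [[4, 5, 7, 10, 8, 6, 4, 2], [5, 8, 10, 15, 12, 9, 6, 3], [7, 10, 14, 20, 16, 12, 8, 4],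
  [10, 15, 20, 30, 24, 18, 12, 6], [8, 12, 16, 24, 20, 15, 10, 5], [6, 9, 12, 18, 15, 12, 8, 4],
  [4, 6, 8, 12, 10, 8, 6, 3], [2, 3, 4, 6, 5, 4, 3, 2]]

/-- The quadratic form, on the values at the fundamental roots. -/
def qN (m : List ℕ) : ℕ :=
  (List.zipWith (fun row a => a * (List.zipWith (· * ·) row m).sum) adjN m).sum

theorem qf_eq_qN (a b c d e f g h : ℕ) :
    qf (xOf [a, b, c, d, e, f, g, h]) = (qN [a, b, c, d, e, f, g, h] : ℤ) := by
  simp [qf, qN, xOf, adjN, adjE8, gram, List.range_succ]
  ring

theorem box_len : ∀ (ws : List ℕ) (l : List ℕ) (b : ℕ), l ∈ box ws b → l.length = ws.length := by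
  intro ws
  induction ws with
  | nil => intro l b h; simp [box] at h; simp [h]
  | cons w ws ih =>
    intro l b h
    simp only [box, List.mem_flatMap, List.mem_map] at h
    obtain ⟨x, -, l', hl', rfl⟩ := h
    simp [ih _ _ hl']

theorem nums17 : (3 : ZMod 17) * 6 = 1 ∧ (3 : ZMod 17) ≠ 0 ∧ (480 : ZMod 17) ≠ 0 := by decide

theorem check_seventeen_nat : (box marks 17).all (fun m => decide (qN m % 17 ≠ 0 ∨
    (∀ a ∈ labOf 17 m, a = 0) ∨ ∃ j : ZMod 17, (labOf 17 m).count (3 * j) ≠ (labOf 17 m).count j)) = true := by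
  decide +kernel

theorem check_seventeen (m : List ℕ) (hm : m ∈ box marks 17) : qf (xOf m) % 17 ≠ 0 ∨
    (∀ a ∈ labOf 17 m, a = 0) ∨ ∃ j : ZMod 17, (labOf 17 m).count (3 * j) ≠ (labOf 17 m).count j := by
  have h := of_decide_eq_true (List.all_eq_true.1 check_seventeen_nat m hm)
  refine h.imp_left fun hq => ?_
  match m, box_len marks m 17 hm with
  | [a, b, c, d, e, f, g, k], _ =>
    rw [qf_eq_qN]
    omega

theorem cartan_ne_zero {p : ℕ} [Fact p.Prime] {v : Fin 8 → ZMod p} (hv : v ≠ 0) : ∃ a ∈ labM v, a ≠ 0 := by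
  by_contra h
  push Not at h
  refine hv (funext fun j => ?_)
  have h1 : ∀ k : Fin 8, ∑ i : Fin 8, (ent gram k.val i.val : ZMod p) * v i = 0 := fun k => by
    simp only [gram_entry]
    exact h _ (Multiset.mem_map.2 ⟨_, Multiset.mem_range.2 (good8.simple_lt _ k.isLt), rfl⟩)
  have h2 : ∑ k : Fin 8, (ent adjE8 j.val k.val : ZMod p) * ∑ i : Fin 8, (ent gram k.val i.val : ZMod p) * v i = 0 :=
    Finset.sum_eq_zero fun k _ => by rw [h1, mul_zero]
  simp only [Finset.mul_sum, ← mul_assoc] at h2
  rw [Finset.sum_comm] at h2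
  simp only [← Finset.sum_mul, ← Int.cast_mul, ← Int.cast_sum, adj_gram] at h2
  simpa using h2

/-- A nonzero point of order three is killed by at most 126 roots. -/
theorem zeros_three [Fact (Nat.Prime 3)] {v : Fin 8 → ZMod 3} (hv : v ≠ 0) : Multiset.count 0 (labM v) ≤ 126 :=
  not_lt.1 fun h => alcove (s := 3) (by norm_num)
    (fun M => (∃ a ∈ M, a ≠ 0) ∧ 126 < Multiset.count 0 M) check_three v ⟨cartan_ne_zero hv, h⟩

/-- No nonzero point of order seventeen has labels permuted by multiplication by three. -/
theorem no_uniform [Fact (Nat.Prime 17)] {v : Fin 8 → ZMod 17}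
    (h : ∀ j, Multiset.count (3 * j) (labM v) = Multiset.count j (labM v)) : v = 0 := by
  by_contra hv
  refine alcove (s := 17) (by norm_num)
    (fun M => (∃ a ∈ M, a ≠ 0) ∧ ∀ j, Multiset.count (3 * j) M = Multiset.count j M) (fun m hm => ?_) v
    ⟨cartan_ne_zero hv, h⟩
  rintro ⟨⟨a, ha, ha0⟩, hu⟩
  have hc := check_seventeen m hm
  rcases hc with hq | hc | ⟨j, hj⟩
  · refine hq ?_
    have h3 : ((↑(labOf 17 m) : Multiset (ZMod 17)).map fun a => 3 * a) = ↑(labOf 17 m) := by
      refine Multiset.ext.2 fun b => ?_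
      obtain ⟨c, rfl⟩ : ∃ c, 3 * c = b := ⟨6 * b, by rw [← mul_assoc, nums17.1, one_mul]⟩
      rw [Multiset.count_map_eq_count' _ _ (mul_right_injective₀ nums17.2.1), hu c]
    have h4 : (((↑(labOf 17 m) : Multiset (ZMod 17)).map fun a => 3 * a).map (· ^ 2)).sum =
        ((↑(labOf 17 m) : Multiset (ZMod 17)).map (· ^ 2)).sum := by rw [h3]
    simp only [Multiset.map_map, Function.comp_def, mul_pow, Multiset.sum_map_mul_left] at h4
    simp only [Multiset.map_coe, Multiset.sum_coe, sq_labOf] at h4
    have h5 : ((qf (xOf m) : ℤ) : ZMod 17) = 0 := by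
      push_cast at h4
      have h6 : (480 : ZMod 17) * ((qf (xOf m) : ℤ) : ZMod 17) = 0 := by linear_combination h4
      exact (mul_eq_zero.1 h6).resolve_left nums17.2.2
    exact Int.emod_eq_zero_of_dvd ((ZMod.intCast_zmod_eq_zero_iff_dvd _ 17).1 h5)
  · exact ha0 (hc a (Multiset.mem_coe.1 ha))
  · exact hj (by simpa only [Multiset.coe_count] using hu j)

end Cfsg.Agent.AltE8
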