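import Cfsg.Agent.Lib.ChevBN.RootTables

/-!
# The table of values of the roots of type E8 on the fundamental coroots
-/

set_option autoImplicit false
set_option maxRecDepth 100000

namespace Cfsg.Agent.AltE8

open Cfsg.Lie

/-- The table. -/
def cartTab : List (List ℤ) := [
  [0,0,0,0,0,0,0,-1], [0,0,0,0,0,0,-1,1], [0,0,0,0,0,-1,1,0], [0,0,0,0,-1,1,0,0],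
  [0,0,0,-1,1,0,0,0], [0,-1,-1,1,0,0,0,0], [-1,-1,1,0,0,0,0,0], [0,1,-1,0,0,0,0,0],
  [-1,1,1,-1,0,0,0,0], [-1,0,0,1,-1,0,0,0], [-1,0,0,0,1,-1,0,0], [-1,0,0,0,0,1,-1,0],
  [-1,0,0,0,0,0,1,-1], [-1,0,0,0,0,0,0,1], [1,-1,0,0,0,0,0,0], [1,1,0,-1,0,0,0,0],
  [1,0,-1,1,-1,0,0,0], [1,0,-1,0,1,-1,0,0], [1,0,-1,0,0,1,-1,0], [1,0,-1,0,0,0,1,-1],
  [1,0,-1,0,0,0,0,1], [0,0,1,0,-1,0,0,0], [0,0,1,-1,1,-1,0,0], [0,0,1,-1,0,1,-1,0],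
  [0,0,1,-1,0,0,1,-1], [0,0,1,-1,0,0,0,1], [0,-1,0,1,0,-1,0,0], [0,-1,0,1,-1,1,-1,0],
  [0,-1,0,1,-1,0,1,-1], [0,-1,0,1,-1,0,0,1], [0,-1,0,0,1,0,-1,0], [0,-1,0,0,1,-1,1,-1],
  [0,-1,0,0,1,-1,0,1], [0,-1,0,0,0,1,0,-1], [0,-1,0,0,0,1,-1,1], [0,-1,0,0,0,0,1,0],
  [0,1,0,0,0,-1,0,0], [0,1,0,0,-1,1,-1,0], [0,1,0,0,-1,0,1,-1], [0,1,0,0,-1,0,0,1],
  [0,1,0,-1,1,0,-1,0], [0,1,0,-1,1,-1,1,-1], [0,1,0,-1,1,-1,0,1], [0,1,0,-1,0,1,0,-1],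
  [0,1,0,-1,0,1,-1,1], [0,1,0,-1,0,0,1,0], [0,0,-1,1,0,0,-1,0], [0,0,-1,1,0,-1,1,-1],
  [0,0,-1,1,0,-1,0,1], [0,0,-1,1,-1,1,0,-1], [0,0,-1,1,-1,1,-1,1], [0,0,-1,1,-1,0,1,0],
  [0,0,-1,0,1,0,0,-1], [0,0,-1,0,1,0,-1,1], [0,0,-1,0,1,-1,1,0], [0,0,-1,0,0,1,0,0],
  [-1,0,1,0,0,0,-1,0], [-1,0,1,0,0,-1,1,-1], [-1,0,1,0,0,-1,0,1], [-1,0,1,0,-1,1,0,-1],
  [-1,0,1,0,-1,1,-1,1], [-1,0,1,0,-1,0,1,0], [-1,0,1,-1,1,0,0,-1], [-1,0,1,-1,1,0,-1,1],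
  [-1,0,1,-1,1,-1,1,0], [-1,0,1,-1,0,1,0,0], [-1,-1,0,1,0,0,0,-1], [-1,-1,0,1,0,0,-1,1],
  [-1,-1,0,1,0,-1,1,0], [-1,-1,0,1,-1,1,0,0], [-1,-1,0,0,1,0,0,0], [-1,1,0,0,0,0,0,-1],
  [-1,1,0,0,0,0,-1,1], [-1,1,0,0,0,-1,1,0], [-1,1,0,0,-1,1,0,0], [-1,1,0,-1,1,0,0,0],
  [-1,0,-1,1,0,0,0,0], [-2,0,1,0,0,0,0,0], [1,0,0,0,0,0,-1,0], [1,0,0,0,0,-1,1,-1],
  [1,0,0,0,0,-1,0,1], [1,0,0,0,-1,1,0,-1], [1,0,0,0,-1,1,-1,1], [1,0,0,0,-1,0,1,0],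
  [1,0,0,-1,1,0,0,-1], [1,0,0,-1,1,0,-1,1], [1,0,0,-1,1,-1,1,0], [1,0,0,-1,0,1,0,0],
  [1,-1,-1,1,0,0,0,-1], [1,-1,-1,1,0,0,-1,1], [1,-1,-1,1,0,-1,1,0], [1,-1,-1,1,-1,1,0,0],
  [1,-1,-1,0,1,0,0,0], [0,-1,1,0,0,0,0,-1], [0,-1,1,0,0,0,-1,1], [0,-1,1,0,0,-1,1,0],
  [0,-1,1,0,-1,1,0,0], [0,-1,1,-1,1,0,0,0], [0,-2,0,1,0,0,0,0], [1,1,-1,0,0,0,0,-1],
  [1,1,-1,0,0,0,-1,1], [1,1,-1,0,0,-1,1,0], [1,1,-1,0,-1,1,0,0], [1,1,-1,-1,1,0,0,0],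
  [1,0,-2,1,0,0,0,0], [0,1,1,-1,0,0,0,-1], [0,1,1,-1,0,0,-1,1], [0,1,1,-1,0,-1,1,0],
  [0,1,1,-1,-1,1,0,0], [0,1,1,-2,1,0,0,0], [0,0,0,1,-1,0,0,-1], [0,0,0,1,-1,0,-1,1],
  [0,0,0,1,-1,-1,1,0], [0,0,0,1,-2,1,0,0], [0,0,0,0,1,-1,0,-1], [0,0,0,0,1,-1,-1,1],
  [0,0,0,0,1,-2,1,0], [0,0,0,0,0,1,-1,-1], [0,0,0,0,0,1,-2,1], [0,0,0,0,0,0,1,-2],
  [0,0,0,0,0,0,-1,2], [0,0,0,0,0,-1,2,-1], [0,0,0,0,0,-1,1,1], [0,0,0,0,-1,2,-1,0],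
  [0,0,0,0,-1,1,1,-1], [0,0,0,0,-1,1,0,1], [0,0,0,-1,2,-1,0,0], [0,0,0,-1,1,1,-1,0],
  [0,0,0,-1,1,0,1,-1], [0,0,0,-1,1,0,0,1], [0,-1,-1,2,-1,0,0,0], [0,-1,-1,1,1,-1,0,0],
  [0,-1,-1,1,0,1,-1,0], [0,-1,-1,1,0,0,1,-1], [0,-1,-1,1,0,0,0,1], [-1,0,2,-1,0,0,0,0],
  [-1,-1,1,1,-1,0,0,0], [-1,-1,1,0,1,-1,0,0], [-1,-1,1,0,0,1,-1,0], [-1,-1,1,0,0,0,1,-1],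
  [-1,-1,1,0,0,0,0,1], [0,2,0,-1,0,0,0,0], [0,1,-1,1,-1,0,0,0], [0,1,-1,0,1,-1,0,0],
  [0,1,-1,0,0,1,-1,0], [0,1,-1,0,0,0,1,-1], [0,1,-1,0,0,0,0,1], [-1,1,1,0,-1,0,0,0],
  [-1,1,1,-1,1,-1,0,0], [-1,1,1,-1,0,1,-1,0], [-1,1,1,-1,0,0,1,-1], [-1,1,1,-1,0,0,0,1],
  [-1,0,0,1,0,-1,0,0], [-1,0,0,1,-1,1,-1,0], [-1,0,0,1,-1,0,1,-1], [-1,0,0,1,-1,0,0,1],
  [-1,0,0,0,1,0,-1,0], [-1,0,0,0,1,-1,1,-1], [-1,0,0,0,1,-1,0,1], [-1,0,0,0,0,1,0,-1],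
  [-1,0,0,0,0,1,-1,1], [-1,0,0,0,0,0,1,0], [2,0,-1,0,0,0,0,0], [1,0,1,-1,0,0,0,0],
  [1,-1,0,1,-1,0,0,0], [1,-1,0,0,1,-1,0,0], [1,-1,0,0,0,1,-1,0], [1,-1,0,0,0,0,1,-1],
  [1,-1,0,0,0,0,0,1], [1,1,0,0,-1,0,0,0], [1,1,0,-1,1,-1,0,0], [1,1,0,-1,0,1,-1,0],
  [1,1,0,-1,0,0,1,-1], [1,1,0,-1,0,0,0,1], [1,0,-1,1,0,-1,0,0], [1,0,-1,1,-1,1,-1,0],
  [1,0,-1,1,-1,0,1,-1], [1,0,-1,1,-1,0,0,1], [1,0,-1,0,1,0,-1,0], [1,0,-1,0,1,-1,1,-1],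
  [1,0,-1,0,1,-1,0,1], [1,0,-1,0,0,1,0,-1], [1,0,-1,0,0,1,-1,1], [1,0,-1,0,0,0,1,0],
  [0,0,1,0,0,-1,0,0], [0,0,1,0,-1,1,-1,0], [0,0,1,0,-1,0,1,-1], [0,0,1,0,-1,0,0,1],
  [0,0,1,-1,1,0,-1,0], [0,0,1,-1,1,-1,1,-1], [0,0,1,-1,1,-1,0,1], [0,0,1,-1,0,1,0,-1],
  [0,0,1,-1,0,1,-1,1], [0,0,1,-1,0,0,1,0], [0,-1,0,1,0,0,-1,0], [0,-1,0,1,0,-1,1,-1],
  [0,-1,0,1,0,-1,0,1], [0,-1,0,1,-1,1,0,-1], [0,-1,0,1,-1,1,-1,1], [0,-1,0,1,-1,0,1,0],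
  [0,-1,0,0,1,0,0,-1], [0,-1,0,0,1,0,-1,1], [0,-1,0,0,1,-1,1,0], [0,-1,0,0,0,1,0,0],
  [0,1,0,0,0,0,-1,0], [0,1,0,0,0,-1,1,-1], [0,1,0,0,0,-1,0,1], [0,1,0,0,-1,1,0,-1],
  [0,1,0,0,-1,1,-1,1], [0,1,0,0,-1,0,1,0], [0,1,0,-1,1,0,0,-1], [0,1,0,-1,1,0,-1,1],
  [0,1,0,-1,1,-1,1,0], [0,1,0,-1,0,1,0,0], [0,0,-1,1,0,0,0,-1], [0,0,-1,1,0,0,-1,1],
  [0,0,-1,1,0,-1,1,0], [0,0,-1,1,-1,1,0,0], [0,0,-1,0,1,0,0,0], [-1,0,1,0,0,0,0,-1],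
  [-1,0,1,0,0,0,-1,1], [-1,0,1,0,0,-1,1,0], [-1,0,1,0,-1,1,0,0], [-1,0,1,-1,1,0,0,0],
  [-1,-1,0,1,0,0,0,0], [-1,1,0,0,0,0,0,0], [1,0,0,0,0,0,0,-1], [1,0,0,0,0,0,-1,1],
  [1,0,0,0,0,-1,1,0], [1,0,0,0,-1,1,0,0], [1,0,0,-1,1,0,0,0], [1,-1,-1,1,0,0,0,0],
  [0,-1,1,0,0,0,0,0], [1,1,-1,0,0,0,0,0], [0,1,1,-1,0,0,0,0], [0,0,0,1,-1,0,0,0],
  [0,0,0,0,1,-1,0,0], [0,0,0,0,0,1,-1,0], [0,0,0,0,0,0,1,-1], [0,0,0,0,0,0,0,1]]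

theorem cartTab_eq : (List.range 240).map (fun r => (List.range 8).map fun j => chevE8.cartan j r) = cartTab := by
  decide +kernel

/-- The Cartan matrix. -/
def gram : List (List ℤ) := [[2, 0, -1, 0, 0, 0, 0, 0], [0, 2, 0, -1, 0, 0, 0, 0], [-1, 0, 2, -1, 0, 0, 0, 0],
  [0, -1, -1, 2, -1, 0, 0, 0], [0, 0, 0, -1, 2, -1, 0, 0], [0, 0, 0, 0, -1, 2, -1, 0], [0, 0, 0, 0, 0, -1, 2, -1],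
  [0, 0, 0, 0, 0, 0, -1, 2]]

theorem gram_eq : (List.range 8).map (fun k => (List.range 8).map fun j => chevE8.cartan j (chevE8.simple k)) = gram := by
  decide +kernel

end Cfsg.Agent.AltE8
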