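import Cfsg.Agent.Lib.AltE7.Perms

/-!
# A Sylow subgroup of the alternating group of degree eighteen for the prime three

* `sh1`, `sh2` : the two cyclic shifts of blocks;
* `flipA`, `swapA`, `quadA`, `gridA` : the permutations moving it;
* `alt_nineteen` : the configuration of order seventeen in degree nineteen.
-/

set_option autoImplicit false
set_option maxRecDepth 100000
set_option maxHeartbeats 1000000
set_option linter.style.haveILetI false

namespace Cfsg.Agent.AltE8

open Equiv Cfsg.Agent.AltE7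

/-- The alternating group of degree eighteen, on six blocks of three points. -/
abbrev A18 := alternatingGroup (Fin (6 * 3))

theorem odd_three : Odd 3 := by decide

/-- The translations. -/
noncomputable def T : Multiplicative (Fin 6 → ZMod 3) →* A18 := altHom 6 3 odd_three

theorem T_injective : Function.Injective T := altHom_injective odd_three

/-- Signs, with a given set of flips. -/
def fl (L : List (Fin 6)) : Fin 6 → (ZMod 3)ˣ := fun i => if i ∈ L then -1 else 1

theorem mo_mul {k s : ℕ} (σ τ : Perm (Fin k)) (c d : Fin k → (ZMod s)ˣ) :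
    mo σ c * mo τ d = mo (σ * τ) (fun i => c (τ i) * d i) := by
  refine Equiv.ext fun x => ?_
  show (σ (τ x.1), (c (τ x.1) : ZMod s) * ((d x.1 : ZMod s) * x.2)) =
    (σ (τ x.1), ((c (τ x.1) * d x.1 : (ZMod s)ˣ) : ZMod s) * x.2)
  rw [Units.val_mul, mul_assoc]

theorem toAlt_mul {g g' : Perm (Fin 6 × ZMod 3)} (h : Perm.sign g = 1) (h' : Perm.sign g' = 1)
    (h'' : Perm.sign (g * g') = 1) : toAlt g h * toAlt g' h' = toAlt (g * g') h'' :=
  Subtype.ext (map_mul (pts 6 3).permCongrHom g g').symm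

theorem toAlt_eq {g g' : Perm (Fin 6 × ZMod 3)} (h : Perm.sign g = 1) (h' : Perm.sign g' = 1) (e : g = g') :
    toAlt g h = toAlt g' h' := Subtype.ext (congrArg (pts 6 3).permCongr e)

/-- An identity of two products. -/
theorem toAlt_rel {a b c d : Perm (Fin 6 × ZMod 3)} (ha : Perm.sign a = 1) (hb : Perm.sign b = 1)
    (hc : Perm.sign c = 1) (hd : Perm.sign d = 1) (e : a * b = c * d) :
    toAlt a ha * toAlt b hb = toAlt c hc * toAlt d hd := by
  rw [toAlt_mul ha hb (by rw [map_mul, ha, hb, mul_one]), toAlt_mul hc hd (by rw [map_mul, hc, hd, mul_one])]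
  exact toAlt_eq _ _ e

/-- The shift of the first three blocks. -/
def c1 : Perm (Fin 6) := swap 0 1 * swap 1 2

/-- The shift of the last three blocks. -/
def c2 : Perm (Fin 6) := swap 3 4 * swap 4 5

/-- The order-four permutation exchanging the triples. -/
def c4 : Perm (Fin 6) := swap 0 3 * (swap 1 5 * (swap 1 2 * swap 1 4))

/-- The transposed grid on the first three blocks. -/
def grid : Perm (Fin 6 × ZMod 3) where
  toFun x := if x.1.val < 3 then (⟨x.2.val, by have := x.2.val_lt; omega⟩, ![0, 2, 1, 0, 0, 0] x.1) else x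
  invFun x := if x.1.val < 3 then (![0, 2, 1, 0, 0, 0] ⟨x.2.val, by have := x.2.val_lt; omega⟩, (x.1.val : ZMod 3)) else x
  left_inv := by intro x; revert x; decide +kernel
  right_inv := by intro x; revert x; decide +kernel

theorem signs :
    (Perm.sign (mo c1 (fl [])) = 1 ∧ Perm.sign (mo c2 (fl [])) = 1 ∧ Perm.sign (mo c4 (fl [])) = 1) ∧
    (Perm.sign (mo (1 : Perm (Fin 6)) (fl [0, 1, 2, 3, 4, 5])) = 1 ∧
      Perm.sign (mo (swap (0 : Fin 6) 1) (fl [3, 4, 5])) = 1 ∧
      Perm.sign (mo (swap (3 : Fin 6) 4) (fl [0, 1, 2])) = 1) ∧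
    Perm.sign grid = 1 := by
  decide +kernel

theorem sign_pair : ∀ i k : Fin 6, i ≠ k → Perm.sign (mo (1 : Perm (Fin 6)) (fl [i, k])) = 1 := by
  decide +kernel

/-- The shift of the first three blocks, in the group. -/
noncomputable def sh1 : A18 := toAlt (mo c1 (fl [])) signs.1.1

/-- The shift of the last three blocks, in the group. -/
noncomputable def sh2 : A18 := toAlt (mo c2 (fl [])) signs.1.2.1

/-- The permutation of order four. -/
noncomputable def quadA : A18 := toAlt (mo c4 (fl [])) signs.1.2.2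

/-- All six flips. -/
noncomputable def allA : A18 := toAlt (mo 1 (fl [0, 1, 2, 3, 4, 5])) signs.2.1.1

/-- A swap in the first triple. -/
noncomputable def swapA : A18 := toAlt (mo (swap 0 1) (fl [3, 4, 5])) signs.2.1.2.1

/-- A swap in the last triple. -/
noncomputable def swapB : A18 := toAlt (mo (swap 3 4) (fl [0, 1, 2])) signs.2.1.2.2

/-- The grid, in the group. -/
noncomputable def gridA : A18 := toAlt grid signs.2.2

/-- Two flips. -/
noncomputable def flipA (i k : Fin 6) (h : i ≠ k) : A18 := toAlt (mo 1 (fl [i, k])) (sign_pair i k h)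

theorem rel_comm12 : mo c1 (fl []) * mo c2 (fl []) = mo c2 (fl []) * mo c1 (fl []) := by
  decide +kernel

theorem rel_swapA_one : mo (swap (0 : Fin 6) 1) (fl [3, 4, 5]) * mo c1 (fl []) = mo c1 (fl []) * mo c1 (fl []) * mo (swap (0 : Fin 6) 1) (fl [3, 4, 5]) := by
  decide +kernel

theorem rel_swapA_two : mo (swap (0 : Fin 6) 1) (fl [3, 4, 5]) * mo c2 (fl []) = mo c2 (fl []) * mo (swap (0 : Fin 6) 1) (fl [3, 4, 5]) := by
  decide +kernel

theorem rel_swapB_one : mo (swap (3 : Fin 6) 4) (fl [0, 1, 2]) * mo c1 (fl []) = mo c1 (fl []) * mo (swap (3 : Fin 6) 4) (fl [0, 1, 2]) := by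
  decide +kernel

theorem rel_swapB_two : mo (swap (3 : Fin 6) 4) (fl [0, 1, 2]) * mo c2 (fl []) = mo c2 (fl []) * mo c2 (fl []) * mo (swap (3 : Fin 6) 4) (fl [0, 1, 2]) := by
  decide +kernel

theorem rel_all_one : mo (1 : Perm (Fin 6)) (fl [0, 1, 2, 3, 4, 5]) * mo c1 (fl []) = mo c1 (fl []) * mo (1 : Perm (Fin 6)) (fl [0, 1, 2, 3, 4, 5]) := by
  decide +kernel

theorem rel_all_two : mo (1 : Perm (Fin 6)) (fl [0, 1, 2, 3, 4, 5]) * mo c2 (fl []) = mo c2 (fl []) * mo (1 : Perm (Fin 6)) (fl [0, 1, 2, 3, 4, 5]) := by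
  decide +kernel

theorem rel_quad_one : mo c4 (fl []) * mo c1 (fl []) = mo c2 (fl []) * mo c4 (fl []) := by
  decide +kernel

theorem rel_quad_two : mo c4 (fl []) * mo c2 (fl []) = mo c1 (fl []) * mo c1 (fl []) * mo c4 (fl []) := by
  decide +kernel

theorem rel_grid_diag : grid * tr (![1, 1, 1, 0, 0, 0] : Fin 6 → ZMod 3) = mo c1 (fl []) * grid := by
  decide +kernel

theorem rel_grid_tail : ∀ j : Fin 6, 3 ≤ j.val → grid * tr (Pi.single j (1 : ZMod 3)) = tr (Pi.single j (1 : ZMod 3)) * grid := by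
  decide +kernel

theorem rel_cube_one : mo c1 (fl []) * mo c1 (fl []) * mo c1 (fl []) = 1 := by
  decide +kernel

theorem rel_cube_two : mo c2 (fl []) * mo c2 (fl []) * mo c2 (fl []) = 1 := by
  decide +kernel

/-- The configuration of order seventeen. -/
theorem alt_nineteen : ∃ x a : alternatingGroup (Fin 19), orderOf x = 17 ∧ a * x * a⁻¹ = x ^ 3 := by
  haveI : Fact (Nat.Prime 17) := ⟨by norm_num⟩
  let X : Perm (Fin 19) :=
    ⟨fun i => if h : i.val < 17 then ⟨(i.val + 1) % 17, by omega⟩ else i,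
     fun i => if h : i.val < 17 then ⟨(i.val + 16) % 17, by omega⟩ else i, by decide +kernel, by decide +kernel⟩
  let A : Perm (Fin 19) :=
    ⟨fun i => if h : i.val < 17 then ⟨(3 * i.val) % 17, by omega⟩ else ⟨35 - i.val, by omega⟩,
     fun i => if h : i.val < 17 then ⟨(6 * i.val) % 17, by omega⟩ else ⟨35 - i.val, by omega⟩,
     by decide +kernel, by decide +kernel⟩
  refine ⟨⟨X, by rw [Equiv.Perm.mem_alternatingGroup]; decide +kernel⟩,
    ⟨A, by rw [Equiv.Perm.mem_alternatingGroup]; decide +kernel⟩, ?_, ?_⟩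
  · refine orderOf_eq_prime ?_ ?_
    · apply Subtype.ext
      show X ^ 17 = 1
      decide +kernel
    · intro e
      have h1 : X = 1 := congrArg Subtype.val e
      exact absurd (DFunLike.congr_fun h1 0) (by decide)
  · apply Subtype.ext
    show A * X * A⁻¹ = X ^ 3
    decide +kernel

end Cfsg.Agent.AltE8
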