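import Cfsg.Agent.Lib.AltE8.Torus
import Cfsg.Agent.Lib.AltE8.Perm

/-!
# Lifting a Sylow subgroup for three of the alternating group of degree eighteen

* `central_of_bound` : the Sylow subgroup of the kernel of a minimal cover is central;
* `exists_sylow_lift` : inside the group of type E8 the Sylow subgroup lifts, with its fusion.
-/

set_option autoImplicit false
set_option maxRecDepth 100000
set_option linter.style.haveILetI false

namespace Cfsg.Agent.AltE8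

section Central

open Subgroup
open scoped commutatorElement

variable {s : ℕ} [hs : Fact s.Prime] {H A : Type*} [Group H] [Group A] [Finite H] {π : H →* A}

/-- The Sylow subgroup of the kernel is central. -/
theorem central_of_bound {N : ℕ} (hm : AltE6.MinCover π) [IsSimpleGroup A] {q : ℕ} [hq : Fact q.Prime] (hqs : q ≠ s)
    (hqd : q ∣ Nat.card A) (hGL : ∀ d ≤ N, ¬ Nat.card A ∣ ∏ i : Fin d, (s ^ d - s ^ i.val))
    (hbound : ∀ R : Subgroup H, IsPGroup s R → ∃ j ≤ N, (frattini R).index = s ^ j)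
    {Q : Subgroup H} [Q.Normal] (hQ : IsPGroup s Q) : ∀ (h : H), ∀ x ∈ Q, h * x = x * h := by
  haveI : Finite A := Finite.of_surjective π hm.surj
  obtain ⟨d, hd, hidx⟩ := hbound Q hQ
  haveI : Group.IsNilpotent Q := hQ.isNilpotent
  letI : CommGroup (Q ⧸ frattini Q) :=
    { (inferInstance : Group (Q ⧸ frattini Q)) with
      mul_comm := fun a b => by
        induction a using QuotientGroup.induction_on with | _ a => ?_
        induction b using QuotientGroup.induction_on with | _ b => ?_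
        refine QuotientGroup.eq.2 (Cores.commutator_le_frattini ?_)
        rw [show (a * b)⁻¹ * (b * a) = ⁅b⁻¹, a⁻¹⁆ by rw [commutatorElement_def]; group, commutator_def]
        exact Subgroup.commutator_mem_commutator (Subgroup.mem_top _) (Subgroup.mem_top _) }
  have hexp : ∀ e : Q ⧸ frattini Q, e ^ s = 1 := fun e => by
    induction e using QuotientGroup.induction_on with | _ e => ?_
    exact (QuotientGroup.eq_one_iff _).2 (Cores.pow_mem_frattini hQ e)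
  have hcV := AltE7.card_mulAut_elem hexp (n := d) (by rw [← hidx, Subgroup.index_eq_card])
  let c : H →* MulAut Q := MulAut.conjNormal
  let φ := RankTwo.quotientAut (frattini Q)
  have htriv : ∀ h, φ (c h) = 1 := by
    by_contra hne
    have hker : (φ.comp c).ker ≤ π.ker := fun y hy => MonoidHom.mem_ker.2 <| by_contra fun hy' => hne fun h =>
      MonoidHom.mem_ker.1 ((hm.top_of_normal (φ.comp c).ker hy hy') ▸ Subgroup.mem_top h :
        h ∈ (φ.comp c).ker)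
    refine hGL d hd ?_
    rw [← hcV, ← Subgroup.card_top (G := A), ← MonoidHom.range_eq_top.2 hm.surj, ← Subgroup.index_ker]
    refine (Subgroup.index_dvd_of_le hker).trans ?_
    rw [Subgroup.index_ker]
    exact (φ.comp c).range.card_subgroup_dvd_card
  have hkey : ∀ e : ℕ, ∀ σ : MulAut Q, φ σ = 1 → σ ^ q ^ e = 1 → σ = 1 := by
    intro e
    induction e with
    | zero => intro σ _ h; rwa [pow_zero, pow_one] at h
    | succ e ih =>
      intro σ hσ h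
      refine ih σ hσ (PAutPrime.eq_one_of_frattini hqs hQ _ (by rw [← pow_mul, ← pow_succ, h]) fun x => ?_)
      have h1 : φ (σ ^ q ^ e) = 1 := by rw [map_pow, hσ, one_pow]
      exact QuotientGroup.eq.1 (DFunLike.congr_fun h1 (x : Q ⧸ frattini Q)).symm
  have hcker : c.ker = ⊤ := by
    rw [eq_top_iff, ← hm.closure_top (q := q) hqd, Subgroup.closure_le]
    rintro h ⟨e, he⟩
    exact MonoidHom.mem_ker.2 (hkey e _ (htriv h) (by rw [← map_pow, he, map_one]))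
  intro h x hx
  have h1 : c h = 1 := MonoidHom.mem_ker.1 (hcker ▸ Subgroup.mem_top h)
  have h2 := congrArg Subtype.val (DFunLike.congr_fun h1 (⟨x, hx⟩ : Q))
  rw [MulAut.conjNormal_apply, MulAut.one_apply] at h2
  exact mul_inv_eq_iff_eq_mul.1 h2

end Central

/-! ### The subgroup of degree eighteen -/

open Equiv (Perm)
open Cfsg.Agent.AltE7 (altHom altHom_conj tr tr_injective mo mv toAlt pts sign_tr)

/-- The translations, as a subgroup. -/
noncomputable def EA : Subgroup A18 := T.range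

/-- The Sylow subgroup. -/
noncomputable def SA : Subgroup A18 := EA ⊔ Subgroup.zpowers sh1 ⊔ Subgroup.zpowers sh2

theorem EA_le : EA ≤ SA := le_sup_left.trans le_sup_left

theorem sh1_mem : sh1 ∈ SA := Subgroup.mem_sup_left (Subgroup.mem_sup_right (Subgroup.mem_zpowers _))

theorem sh2_mem : sh2 ∈ SA := Subgroup.mem_sup_right (Subgroup.mem_zpowers _)

theorem sh1_cube : sh1 ^ 3 = 1 := Subtype.ext (by
  show (pts 6 3).permCongrHom (mo c1 (fl [])) ^ 3 = 1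
  rw [← map_pow, pow_succ, pow_two, rel_cube_one, map_one])

theorem sh2_cube : sh2 ^ 3 = 1 := Subtype.ext (by
  show (pts 6 3).permCongrHom (mo c2 (fl [])) ^ 3 = 1
  rw [← map_pow, pow_succ, pow_two, rel_cube_two, map_one])

theorem sh_comm : sh1 * sh2 = sh2 * sh1 := toAlt_rel _ _ _ _ rel_comm12

theorem conj_EA {σ : Perm (Fin 6)} {c : Fin 6 → (ZMod 3)ˣ} (h : Perm.sign (mo σ c) = 1) :
    ∀ e ∈ EA, toAlt (mo σ c) h * e * (toAlt (mo σ c) h)⁻¹ ∈ EA := by
  rintro _ ⟨w, rfl⟩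
  exact ⟨Multiplicative.ofAdd (mv σ c w.toAdd), (altHom_conj odd_three h w.toAdd).symm⟩

theorem mem_normalizer_of {G : Type*} [Group G] [Finite G] {U : Subgroup G} {m : G}
    (h : ∀ t ∈ U, m * t * m⁻¹ ∈ U) : m ∈ Subgroup.normalizer (U : Set G) := by
  have hle : U.map (MulAut.conj m).toMonoidHom ≤ U := by
    rintro _ ⟨t, ht, rfl⟩
    exact h t ht
  have he : U.map (MulAut.conj m).toMonoidHom = U := Subgroup.eq_of_le_of_card_ge hle
    (le_of_eq (Subgroup.card_map_of_injective (MulAut.conj m).injective).symm)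
  rw [Subgroup.mem_normalizer_iff]
  refine fun t => ⟨h t, fun ht => ?_⟩
  have ht' : m * t * m⁻¹ ∈ U.map (MulAut.conj m).toMonoidHom := by rw [he]; exact ht
  obtain ⟨u, hu, e⟩ := ht'
  rwa [← (MulAut.conj m).injective e]

theorem isPGroup_zpowers {G : Type*} [Group G] {x : G} {j : ℕ} (hx : x ^ 3 ^ j = 1) :
    IsPGroup 3 (Subgroup.zpowers x) := by
  rintro ⟨_, i, rfl⟩
  refine ⟨j, Subtype.ext ?_⟩
  show (x ^ i) ^ 3 ^ j = 1
  rw [← zpow_natCast, ← zpow_mul, mul_comm, zpow_mul, zpow_natCast, hx, one_zpow]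

theorem SA_norm : ∀ x ∈ SA, ∀ e ∈ EA, x * e * x⁻¹ ∈ EA := by
  intro x hx
  have h : SA ≤ Subgroup.normalizer (EA : Set A18) := sup_le (sup_le Subgroup.le_normalizer
    (Subgroup.zpowers_le.2 (mem_normalizer_of (conj_EA signs.1.1))))
    (Subgroup.zpowers_le.2 (mem_normalizer_of (conj_EA signs.1.2.1)))
  exact fun e he => (Subgroup.mem_normalizer_iff.1 (h hx) e).1 he

theorem T_cube (w : Multiplicative (Fin 6 → ZMod 3)) : T w ^ 3 = 1 := by
  rw [← map_pow, show w ^ 3 = 1 from Multiplicative.toAdd.injective (funext fun i => by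
    rw [toAdd_pow, Pi.smul_apply, nsmul_eq_mul, ZMod.natCast_self, zero_mul, toAdd_one, Pi.zero_apply]), map_one]

theorem SA_pgroup : IsPGroup 3 SA := by
  haveI : Fact (Nat.Prime 3) := ⟨Nat.prime_three⟩
  have hE : IsPGroup 3 EA := by
    rintro ⟨_, w, rfl⟩
    exact ⟨1, Subtype.ext (T_cube w)⟩
  have h1 : IsPGroup 3 ↥(Subgroup.zpowers sh1 ⊔ EA) := (isPGroup_zpowers (j := 1) sh1_cube).to_sup_of_normal_right' hE
    (Subgroup.zpowers_le.2 (mem_normalizer_of (conj_EA signs.1.1)))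
  have h2 : IsPGroup 3 ↥(Subgroup.zpowers sh2 ⊔ (Subgroup.zpowers sh1 ⊔ EA)) :=
    (isPGroup_zpowers (j := 1) sh2_cube).to_sup_of_normal_right' h1 (Subgroup.zpowers_le.2 (mem_normalizer_of fun t ht => by
      have hs : sh2 ∈ Subgroup.normalizer (EA : Set A18) := mem_normalizer_of (conj_EA signs.1.2.1)
      have hz : sh2 ∈ Subgroup.normalizer (Subgroup.zpowers sh1 : Set A18) := mem_normalizer_of fun t ht => by
        obtain ⟨i, rfl⟩ := Subgroup.mem_zpowers_iff.1 ht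
        rw [((Commute.zpow_left (show Commute sh1 sh2 from sh_comm) i).symm).eq, mul_inv_cancel_right]
        exact zpow_mem (Subgroup.mem_zpowers _) i
      exact ((Subgroup.mem_normalizer_iff.1
        (Subgroup.normalizer_inf_normalizer_le_normalizer_sup _ _ ⟨hz, hs⟩)) t).1 ht))
  rwa [SA, sup_comm EA, sup_comm]

theorem perm_shift : ∀ a b : Fin 3,
    (∀ i : Fin 6, ((mo c1 (fl []) ^ a.val * mo c2 (fl []) ^ b.val) (i, 0)).1 = i) → a = 0 ∧ b = 0 := by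
  decide +kernel

theorem shift_unique (w : Multiplicative (Fin 6 → ZMod 3)) (a b : ℤ) (h : T w * sh1 ^ a * sh2 ^ b = 1) :
    w = 1 ∧ (3 : ℤ) ∣ a ∧ (3 : ℤ) ∣ b := by
  obtain ⟨a', ha⟩ : ∃ a' : ℕ, (a' : ℤ) = a % 3 := ⟨(a % 3).toNat, Int.toNat_of_nonneg (Int.emod_nonneg _ (by norm_num))⟩
  obtain ⟨b', hb⟩ : ∃ b' : ℕ, (b' : ℤ) = b % 3 := ⟨(b % 3).toNat, Int.toNat_of_nonneg (Int.emod_nonneg _ (by norm_num))⟩
  have hred : ∀ (x : A18), x ^ 3 = 1 → ∀ z : ℤ, ∀ n : ℕ, (n : ℤ) = z % 3 → x ^ z = x ^ n := by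
    intro x hx z n hn
    rw [← zpow_natCast, hn]
    conv_lhs => rw [← Int.emod_add_mul_ediv z 3]
    rw [zpow_add, zpow_mul, show x ^ (3 : ℤ) = 1 from hx, one_zpow, mul_one]
  rw [hred sh1 sh1_cube a a' ha, hred sh2 sh2_cube b b' hb] at h
  have hperm : tr w.toAdd * (mo c1 (fl []) ^ a' * mo c2 (fl []) ^ b') = 1 := by
    refine (pts 6 3).permCongrHom.injective ?_
    rw [map_mul, map_mul, map_pow, map_pow, map_one, ← mul_assoc]
    exact congrArg Subtype.val h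
  obtain ⟨e1, e2⟩ := perm_shift ⟨a', by omega⟩ ⟨b', by omega⟩ fun i =>
    congrArg Prod.fst (DFunLike.congr_fun hperm (i, 0))
  have e1' : a' = 0 := congrArg Fin.val e1
  have e2' : b' = 0 := congrArg Fin.val e2
  refine ⟨Multiplicative.toAdd.injective (tr_injective ?_), by omega, by omega⟩
  rw [e1', e2', pow_zero, pow_zero, mul_one, mul_one] at hperm
  rw [hperm, toAdd_one, AltE7.tr_zero]

theorem SA_card : 3 ^ 8 ≤ Nat.card SA := by
  classical
  let f : (Multiplicative (Fin 6 → ZMod 3)) × Fin 3 × Fin 3 → SA := fun x =>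
    ⟨T x.1 * sh1 ^ x.2.1.val * sh2 ^ x.2.2.val,
      mul_mem (mul_mem (EA_le ⟨x.1, rfl⟩) (pow_mem sh1_mem _)) (pow_mem sh2_mem _)⟩
  have hf : Function.Injective f := by
    intro x y h
    have e : T x.1 * sh1 ^ x.2.1.val * sh2 ^ x.2.2.val = T y.1 * sh1 ^ y.2.1.val * sh2 ^ y.2.2.val :=
      congrArg Subtype.val h
    have h1 : ∀ n : ℤ, Commute (sh1 ^ n) (sh2 ^ n) := fun n => (Commute.zpow_zpow sh_comm n n)
    have e' : T (y.1⁻¹ * x.1) * sh1 ^ ((x.2.1.val : ℤ) - y.2.1.val) * sh2 ^ ((x.2.2.val : ℤ) - y.2.2.val) = 1 := by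
      rw [map_mul, map_inv, zpow_sub, zpow_sub, zpow_natCast, zpow_natCast, zpow_natCast, zpow_natCast]
      have hc : Commute (sh1 ^ y.2.1.val)⁻¹ (sh2 ^ x.2.2.val) := ((show Commute sh1 sh2 from sh_comm).pow_pow _ _).inv_left
      calc (T y.1)⁻¹ * T x.1 * (sh1 ^ x.2.1.val * (sh1 ^ y.2.1.val)⁻¹) * (sh2 ^ x.2.2.val * (sh2 ^ y.2.2.val)⁻¹)
          = (T y.1)⁻¹ * (T x.1 * sh1 ^ x.2.1.val * ((sh1 ^ y.2.1.val)⁻¹ * sh2 ^ x.2.2.val)) * (sh2 ^ y.2.2.val)⁻¹ := by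
            group
        _ = (T y.1)⁻¹ * (T x.1 * sh1 ^ x.2.1.val * sh2 ^ x.2.2.val) * ((sh1 ^ y.2.1.val)⁻¹ * (sh2 ^ y.2.2.val)⁻¹) := by
            rw [hc.eq]; group
        _ = 1 := by
            rw [e, ← mul_inv_rev (sh2 ^ y.2.2.val), ((show Commute sh2 sh1 from sh_comm.symm).pow_pow _ _).eq]
            group
    obtain ⟨e1, e2, e3⟩ := shift_unique _ _ _ e'
    have hx1 := x.2.1.isLt
    have hy1 := y.2.1.isLt
    have hx2 := x.2.2.isLt
    have hy2 := y.2.2.isLt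
    exact Prod.ext (inv_mul_eq_one.1 e1).symm (Prod.ext (Fin.ext (by omega)) (Fin.ext (by omega)))
  refine le_trans (le_of_eq ?_) (Nat.card_le_card_of_injective f hf)
  rw [Nat.card_prod, Nat.card_prod, Nat.card_congr Multiplicative.toAdd, Nat.card_fun, Nat.card_zmod, Nat.card_fin,
    Nat.card_fin]
  norm_num

theorem card_A18 : Nat.card A18 = (18).factorial / 2 := by
  rw [nat_card_alternatingGroup, Nat.card_eq_fintype_card, Fintype.card_fin]

theorem num_checks : (¬ 3 ^ 9 ∣ (18).factorial / 2) ∧ 17 ∣ (18).factorial / 2 ∧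
    ∀ d ≤ 13, ¬ (18).factorial / 2 ∣ ∏ i : Fin d, (3 ^ d - 3 ^ i.val) := by
  decide +kernel

/-! ### The lift -/

section Lift

variable {H A : Type*} [Group H] [Finite H] [Group A] {π : H →* A} {Q : Subgroup H}
  (hQmax : ∀ R : Subgroup H, IsPGroup 3 R → R ≤ π.ker → R ≤ Q) (hQp : IsPGroup 3 Q)
  (hcent : ∀ (h : H), ∀ x ∈ Q, h * x = x * h)
  {P : Subgroup H} (hP : IsPGroup 3 P) (hQP : Q ≤ P)

omit [Finite H] in
include hQmax hP in
theorem mem_of_ker {t : H} (ht : t ∈ P) (h1 : π t = 1) : t ∈ Q :=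
  hQmax (P ⊓ π.ker) (hP.to_le inf_le_left) inf_le_right ⟨ht, h1⟩

omit [Finite H] in
include hQp in
theorem eq_one_of_coprime {z : H} (hz : z ∈ Q) {m : ℕ} (hm : ¬ 3 ∣ m) (h : z ^ m = 1) : z = 1 := by
  obtain ⟨j, hj⟩ := hQp ⟨z, hz⟩
  have h3 : z ^ 3 ^ j = 1 := congrArg Subtype.val hj
  have hcop : Nat.Coprime m (3 ^ j) :=
    Nat.Coprime.pow_right _ ((Nat.prime_three.coprime_iff_not_dvd.2 hm).symm)
  have h4 := Nat.dvd_gcd (orderOf_dvd_of_pow_eq_one h) (orderOf_dvd_of_pow_eq_one h3)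
  rw [hcop] at h4
  exact orderOf_eq_one_iff.1 (Nat.dvd_one.1 h4)

include hQmax hQp hcent hP in
/-- A kernel element normalising a subgroup of order a power of three centralises it. -/
theorem ker_trivial {k : H} (hk : π k = 1) (hkP : ∀ x ∈ P, k * x * k⁻¹ ∈ P) {x : H} (hx : x ∈ P) :
    k * x * k⁻¹ = x := by
  obtain ⟨z, hz⟩ : ∃ z, z = k * x * k⁻¹ * x⁻¹ := ⟨_, rfl⟩
  have hzQ : z ∈ Q := mem_of_ker hQmax hP (hz ▸ mul_mem (hkP x hx) (inv_mem hx)) (by
    rw [hz, map_mul, map_mul, map_mul, map_inv, map_inv, hk]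
    group)
  have hzc : ∀ g : H, Commute g z := fun g => hcent g z hzQ
  have hiter : ∀ n : ℕ, k ^ n * x * (k ^ n)⁻¹ = z ^ n * x := by
    intro n
    induction n with
    | zero => simp
    | succ n ih =>
      calc k ^ (n + 1) * x * (k ^ (n + 1))⁻¹ = k * (k ^ n * x * (k ^ n)⁻¹) * k⁻¹ := by rw [pow_succ']; group
        _ = k * z ^ n * (x * k⁻¹) := by rw [ih]; group
        _ = z ^ n * (k * x * k⁻¹) := by rw [((hzc k).pow_right n).eq]; group
        _ = _ := by rw [pow_succ, mul_assoc, hz]; group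
  obtain ⟨e, m, hm, he⟩ := Nat.exists_eq_pow_mul_and_not_dvd (orderOf_pos k).ne' 3 (by norm_num)
  have hkm : k ^ m ∈ Q := by
    refine hQmax _ (isPGroup_zpowers (j := e) ?_) ?_ (Subgroup.mem_zpowers (k ^ m))
    · rw [← pow_mul, mul_comm, ← he, pow_orderOf_eq_one]
    · exact Subgroup.zpowers_le.2 (by rw [MonoidHom.mem_ker, map_pow, hk, one_pow])
  have h1 : z ^ m * x = x := by rw [← hiter m, ← hcent x _ hkm, mul_inv_cancel_right]
  have hz1 := eq_one_of_coprime hQp hzQ hm (mul_eq_right.1 h1)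
  have := hiter 1
  rwa [pow_one, pow_one, hz1, one_mul] at this

include hQmax hQp hcent hP in
/-- Two lifts of an element normalising the same subgroup act in the same way on it. -/
theorem same_action {g g' : H} (he : π g = π g') (hg : ∀ x ∈ P, g * x * g⁻¹ ∈ P) (hg' : ∀ x ∈ P, g' * x * g'⁻¹ ∈ P)
    {x : H} (hx : x ∈ P) : g * x * g⁻¹ = g' * x * g'⁻¹ := by
  have h := ker_trivial hQmax hQp hcent hP (k := g'⁻¹ * g) (by rw [map_mul, map_inv, he, inv_mul_cancel])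
    (fun y hy => by
      have h2 : g' * (g'⁻¹ * g * y * (g'⁻¹ * g)⁻¹) * g'⁻¹ ∈ P := by
        rw [show g' * (g'⁻¹ * g * y * (g'⁻¹ * g)⁻¹) * g'⁻¹ = g * y * g⁻¹ by group]
        exact hg y hy
      exact ((Subgroup.mem_normalizer_iff.1 (mem_normalizer_of hg')) _).2 h2) hx
  calc g * x * g⁻¹ = g' * (g'⁻¹ * g * x * (g'⁻¹ * g)⁻¹) * g'⁻¹ := by group
    _ = _ := by rw [h]

include hQmax hQp hcent hP in
/-- Elements with one inverted and the other fixed commute. -/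
theorem comm_of_inverted {g : H} (hg : ∀ t ∈ P, g * t * g⁻¹ ∈ P) {x y : H} (hx : x ∈ P) (hy : y ∈ P)
    (hc : π x * π y = π y * π x) (hgx : π g * π x * (π g)⁻¹ = (π x)⁻¹) (hgy : π g * π y * (π g)⁻¹ = π y) :
    x * y = y * x := by
  obtain ⟨z, hz⟩ : ∃ z, z = x * y * x⁻¹ * y⁻¹ := ⟨_, rfl⟩
  have hzQ : z ∈ Q := mem_of_ker hQmax hP
    (hz ▸ mul_mem (mul_mem (mul_mem hx hy) (inv_mem hx)) (inv_mem hy)) (by
      rw [hz, map_mul, map_mul, map_mul, map_inv, map_inv, hc]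
      group)
  have hzc : ∀ m : H, m * z = z * m := fun m => hcent m z hzQ
  obtain ⟨r, hr⟩ : ∃ r, r = x * (g * x * g⁻¹) := ⟨_, rfl⟩
  obtain ⟨r', hr'⟩ : ∃ r', r' = y⁻¹ * (g * y * g⁻¹) := ⟨_, rfl⟩
  have hrQ : r ∈ Q := mem_of_ker hQmax hP (hr ▸ mul_mem hx (hg x hx)) (by
    rw [hr, map_mul, map_mul, map_mul, map_inv, hgx, mul_inv_cancel])
  have hrQ' : r' ∈ Q := mem_of_ker hQmax hP (hr' ▸ mul_mem (inv_mem hy) (hg y hy)) (by
    rw [hr', map_mul, map_inv, map_mul, map_mul, map_inv, hgy, inv_mul_cancel])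
  have e1 : g * x * g⁻¹ = x⁻¹ * r := by rw [hr]; group
  have e2 : g * y * g⁻¹ = y * r' := by rw [hr']; group
  have c1 : ∀ m : H, Commute r m := fun m => (hcent m r hrQ).symm
  have c2 : ∀ m : H, Commute r' m := fun m => (hcent m r' hrQ').symm
  have hg1 : g * z * g⁻¹ = z := by rw [hzc g, mul_inv_cancel_right]
  have hg2 : g * z * g⁻¹ = (g * x * g⁻¹) * (g * y * g⁻¹) * (g * x * g⁻¹)⁻¹ * (g * y * g⁻¹)⁻¹ := by
    rw [hz]; group
  have h3 : x⁻¹ * r * (y * r') * (x⁻¹ * r)⁻¹ * (y * r')⁻¹ = x⁻¹ * y * x * y⁻¹ := by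
    have a1 : x⁻¹ * r * (y * r') * (x⁻¹ * r)⁻¹ = x⁻¹ * (r * (y * r')) * r⁻¹ * x := by group
    rw [a1, (c1 (y * r')).eq]
    calc x⁻¹ * (y * r' * r) * r⁻¹ * x * (y * r')⁻¹ = x⁻¹ * y * (r' * x) * r'⁻¹ * y⁻¹ := by group
      _ = _ := by rw [(c2 x).eq]; group
  rw [hg1, e1, e2, h3] at hg2
  have hxy : x * y = z * (y * x) := by rw [hz]; group
  have hsq : z ^ 2 = 1 := by
    have : x * z = x * (x⁻¹ * y * x * y⁻¹) := congrArg (x * ·) hg2
    rw [show x * (x⁻¹ * y * x * y⁻¹) = z⁻¹ * x by rw [hz]; group, hzc x] at this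
    rw [pow_two, ← mul_inv_cancel z]
    exact congrArg (z * ·) (mul_right_cancel this)
  have hz1 := eq_one_of_coprime hQp hzQ (by norm_num) hsq
  rw [hxy, hz1, one_mul]

end Lift

open Cfsg.Agent.ToralSection (exists_conj_into)

theorem T_conj {σ : Perm (Fin 6)} {c : Fin 6 → (ZMod 3)ˣ} (h : Perm.sign (mo σ c) = 1) (v : Fin 6 → ZMod 3) :
    toAlt (mo σ c) h * T (Multiplicative.ofAdd v) * (toAlt (mo σ c) h)⁻¹ = T (Multiplicative.ofAdd (mv σ c v)) :=
  altHom_conj odd_three h v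

theorem flip_values : ∀ i j k : Fin 6, i ≠ j → k ≠ i → k ≠ j →
    mv 1 (fl [i, k]) (Pi.single i (1 : ZMod 3)) = -Pi.single i 1 ∧
      mv 1 (fl [i, k]) (Pi.single j (1 : ZMod 3)) = Pi.single j 1 := by
  decide +kernel

theorem third : ∀ i j : Fin 6, ∃ k, k ≠ i ∧ k ≠ j := by decide

theorem all_flip (v : Fin 6 → ZMod 3) : mv 1 (fl [0, 1, 2, 3, 4, 5]) v = -v := by
  funext j
  show (fl [0, 1, 2, 3, 4, 5] j : ZMod 3) * v j = -v j
  fin_cases j <;> simp [fl]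

theorem T_neg (v : Fin 6 → ZMod 3) : T (Multiplicative.ofAdd (-v)) = (T (Multiplicative.ofAdd v))⁻¹ := by
  rw [ofAdd_neg, map_inv]

theorem swap_rels :
    swapA * sh1 * swapA⁻¹ = sh1⁻¹ ∧ swapA * sh2 * swapA⁻¹ = sh2 ∧ swapA * swapA = 1 ∧
    swapB * sh2 * swapB⁻¹ = sh2⁻¹ ∧ swapB * sh1 * swapB⁻¹ = sh1 ∧ swapB * swapB = 1 ∧
    allA * sh1 = sh1 * allA ∧ allA * sh2 = sh2 * allA ∧ allA * allA = 1 := by
  have e1 : sh1⁻¹ = sh1 * sh1 := inv_eq_of_mul_eq_one_right (by rw [← mul_assoc, ← pow_two, ← pow_succ, sh1_cube])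
  have e2 : sh2⁻¹ = sh2 * sh2 := inv_eq_of_mul_eq_one_right (by rw [← mul_assoc, ← pow_two, ← pow_succ, sh2_cube])
  have hsq : ∀ (g : Perm (Fin 6 × ZMod 3)) (h : Perm.sign g = 1), g * g = 1 → toAlt g h * toAlt g h = 1 :=
    fun g h hg => Subtype.ext (by
      show (pts 6 3).permCongrHom g * (pts 6 3).permCongrHom g = 1
      rw [← map_mul, hg, map_one])
  have hcc : ∀ c : Perm (Fin 6 × ZMod 3), ∀ hc : Perm.sign c = 1, toAlt c hc * toAlt c hc =
      toAlt (c * c) (by rw [map_mul, hc, one_mul]) := fun c hc => toAlt_mul _ _ _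
  refine ⟨?_, mul_inv_eq_iff_eq_mul.2 (toAlt_rel _ _ _ _ rel_swapA_two), hsq _ _ (by decide +kernel),
    ?_, mul_inv_eq_iff_eq_mul.2 (toAlt_rel _ _ _ _ rel_swapB_one), hsq _ _ (by decide +kernel),
    toAlt_rel _ _ _ _ rel_all_one, toAlt_rel _ _ _ _ rel_all_two, hsq _ _ (by decide +kernel)⟩
  · rw [mul_inv_eq_iff_eq_mul, e1, sh1, hcc]
    exact toAlt_rel _ _ _ _ rel_swapA_one
  · rw [mul_inv_eq_iff_eq_mul, e2, sh2, hcc]
    exact toAlt_rel _ _ _ _ rel_swapB_two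

theorem swapA_norm : ∀ e ∈ SA, swapA * e * swapA⁻¹ ∈ SA := by
  have h : SA ≤ SA.comap (MulAut.conj swapA).toMonoidHom := by
    refine sup_le (sup_le (fun e he => EA_le (conj_EA signs.2.1.2.1 e he)) (Subgroup.zpowers_le.2 ?_))
      (Subgroup.zpowers_le.2 ?_)
    · show swapA * sh1 * swapA⁻¹ ∈ SA
      rw [swap_rels.1]
      exact inv_mem sh1_mem
    · show swapA * sh2 * swapA⁻¹ ∈ SA
      rw [swap_rels.2.1]
      exact sh2_mem
  exact fun e he => h he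

variable {K : Type} [Field K] [Fintype K]

/-- The Sylow subgroup lifts, with its fusion. -/
theorem exists_sylow_lift (hdvd : 3 ∣ Fintype.card K - 1) {H : Type} [Group H] [Finite H] (ι : H →* G8 K)
    (hι : Function.Injective ι) (π : H →* A18) (hm : AltE6.MinCover π) :
    ∃ s : ↥SA →* H, Function.Injective s ∧
      ∀ a : A18, ∃ g : H, ∀ (x : SA) (hx : a * (x : A18) * a⁻¹ ∈ SA), g * s x * g⁻¹ = s ⟨a * x * a⁻¹, hx⟩ := by
  classical
  haveI : Fact (Nat.Prime 3) := ⟨Nat.prime_three⟩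
  haveI : Fact (Nat.Prime 17) := ⟨by norm_num⟩
  haveI hsimple : IsSimpleGroup A18 :=
    alternatingGroup.isSimpleGroup (by rw [Nat.card_eq_fintype_card, Fintype.card_fin]; omega)
  have hnc : ¬ ∀ a b : A18, a * b = b * a := fun hc => by
    have := (alternatingGroup.isMulCommutative_iff_card_le_three (α := Fin (6 * 3))).1 ⟨⟨hc⟩⟩
    rw [Nat.card_eq_fintype_card, Fintype.card_fin] at this
    omega
  obtain ⟨Q, hQn, hQp, hQk, hQmax⟩ := hm.exists_kerSylow 3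
  haveI := hQn
  have hcent := central_of_bound (N := 13) hm (q := 17) (by norm_num) (by rw [card_A18]; exact num_checks.2.1)
    (by rw [card_A18]; exact num_checks.2.2)
    (fun R hR => frattini_bound tau_comm (e := 5) (index_three hdvd) torus_torsion ι hι R hR) hQp
  obtain ⟨P, -, hQP, hP, hPmap⟩ := AltE6.exists_over π hQp hQk le_top SA_pgroup
    (by rw [Subgroup.map_top_of_surjective π hm.surj]; exact le_top : SA ≤ (⊤ : Subgroup H).map π)
  have hPk : ∀ {t}, t ∈ P → π t = 1 → t ∈ Q := fun ht h1 => mem_of_ker hQmax hP ht h1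
  have hlift : ∀ X : Subgroup H, Q ≤ X → IsPGroup 3 X → ∀ a : A18, (∀ e ∈ X.map π, a * e * a⁻¹ ∈ X.map π) →
      ∃ g, π g = a ∧ ∀ t ∈ X, g * t * g⁻¹ ∈ X := fun X hQX hX a ha => by
    obtain ⟨g, -, h1, h2⟩ := AltE6.exists_norm_lift π hQmax hQX le_top hX
      (by rw [Subgroup.map_top_of_surjective π hm.surj]; exact Subgroup.mem_top a) ha
    exact ⟨g, h1, h2⟩
  -- the preimage of the translations
  obtain ⟨X, hXdef⟩ : ∃ X, X = P ⊓ EA.comap π := ⟨_, rfl⟩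
  have hXP : X ≤ P := hXdef ▸ inf_le_left
  have hXp : IsPGroup 3 X := hP.to_le hXP
  have hQX : Q ≤ X := hXdef ▸ le_inf hQP fun q hq => Subgroup.mem_comap.2 (by
    rw [MonoidHom.mem_ker.1 (hQk hq)]; exact one_mem _)
  have hXmap : X.map π = EA := by
    rw [hXdef]
    refine le_antisymm (fun e he => ?_) fun e he => ?_
    · obtain ⟨t, ht, rfl⟩ := he
      exact ht.2
    · obtain ⟨t, ht, rfl⟩ := hPmap.ge (EA_le he)
      exact ⟨t, ⟨ht, he⟩, rfl⟩
  have hXnorm : ∀ h ∈ P, ∀ t ∈ X, h * t * h⁻¹ ∈ X := fun h hh t ht => by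
    rw [hXdef] at ht ⊢
    refine ⟨P.mul_mem (P.mul_mem hh ht.1) (P.inv_mem hh), ?_⟩
    show π (h * t * h⁻¹) ∈ EA
    rw [map_mul, map_mul, map_inv]
    exact SA_norm _ (hPmap.le ⟨h, hh, rfl⟩) _ ht.2
  -- it is abelian
  have hyex : ∀ i : Fin 6, ∃ y ∈ X, π y = T (Multiplicative.ofAdd (Pi.single i (1 : ZMod 3))) := fun i =>
    hXmap.ge ⟨_, rfl⟩
  choose y hyX hy using hyex
  have hXab : ∀ x ∈ X, ∀ x' ∈ X, x * x' = x' * x := by
    have hcomm : ∀ i j, y i * y j = y j * y i := by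
      intro i j
      rcases eq_or_ne i j with rfl | hij
      · rfl
      obtain ⟨k, hk, hkj⟩ := third i j
      obtain ⟨g, hg, hgX⟩ := hlift X hQX hXp (flipA i k hk.symm) (by rw [hXmap]; exact conj_EA _)
      refine comm_of_inverted hQmax hQp hcent hXp hgX (hyX i) (hyX j) ?_ ?_ ?_
      · rw [hy, hy]
        exact ((Commute.all _ _).map T).eq
      · rw [hg, hy, flipA, T_conj, (flip_values i j k hij hk hkj).1, T_neg]
      · rw [hg, hy, flipA, T_conj, (flip_values i j k hij hk hkj).2]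
    set V := Subgroup.closure (Set.range y ∪ (Q : Set H))
    have hVX : V ≤ X := by
      rw [Subgroup.closure_le, Set.union_subset_iff]
      exact ⟨by rintro _ ⟨i, rfl⟩; exact hyX i, hQX⟩
    have hVc : IsMulCommutative V := Subgroup.isMulCommutative_closure (by
      rintro x (⟨i, rfl⟩ | hx) x' (⟨j, rfl⟩ | hx')
      · exact hcomm i j
      · exact hcent _ _ hx'
      · exact (hcent _ _ hx).symm
      · exact hcent _ _ hx')
    have hgen : ∀ w, T w ∈ V.map π := by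
      intro w
      have hw : w = ∏ i, Multiplicative.ofAdd (Pi.single i (1 : ZMod 3)) ^ (w.toAdd i).val := by
        apply Multiplicative.toAdd.injective
        simp only [toAdd_prod, toAdd_pow, toAdd_ofAdd]
        funext j
        simp only [Finset.sum_apply, nsmul_eq_mul, Pi.mul_apply, Pi.natCast_apply]
        rw [Finset.sum_eq_single j (fun i _ h => by rw [Pi.single_eq_of_ne h.symm, mul_zero]) (by simp),
          Pi.single_eq_same, mul_one, ZMod.natCast_zmod_val]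
      have h1 : w ∈ (V.map π).comap T := by
        rw [hw]
        exact Subgroup.prod_mem _ fun i _ => pow_mem
          (show Multiplicative.ofAdd (Pi.single i (1 : ZMod 3)) ∈ (V.map π).comap T from
            ⟨y i, Subgroup.subset_closure (Or.inl ⟨i, rfl⟩), hy i⟩) _
      exact h1
    have hXV : X ≤ V := fun t ht => by
      obtain ⟨w, hw⟩ := hXmap.le ⟨t, ht, rfl⟩
      obtain ⟨u, hu, hut⟩ := hgen w
      have h1 : u⁻¹ * t ∈ Q := hPk (hXP (mul_mem (inv_mem (hVX hu)) ht)) (by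
        rw [map_mul, map_inv, hut, hw, inv_mul_cancel])
      have h2 := mul_mem hu (Subgroup.subset_closure (Or.inr h1) : u⁻¹ * t ∈ V)
      rwa [mul_inv_cancel_left] at h2
    exact fun x hx x' hx' => congrArg Subtype.val (hVc.is_comm.comm (⟨x, hXV hx⟩ : V) ⟨x', hXV hx'⟩)
  -- the part inverted by all six flips
  obtain ⟨g₀, hg₀, hg₀X⟩ := hlift X hQX hXp allA (by rw [hXmap]; exact conj_EA _)
  have hinvE : ∀ e ∈ EA, allA * e * allA⁻¹ = e⁻¹ := by
    rintro _ ⟨w, rfl⟩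
    exact (T_conj signs.2.1.1 w.toAdd).trans (by rw [all_flip, T_neg]; rfl)
  let U : Subgroup H :=
    { carrier := {t | t ∈ X ∧ g₀ * t * g₀⁻¹ = t⁻¹}
      mul_mem' := fun {a b} ha hb => ⟨mul_mem ha.1 hb.1, by
        rw [show g₀ * (a * b) * g₀⁻¹ = (g₀ * a * g₀⁻¹) * (g₀ * b * g₀⁻¹) by group, ha.2, hb.2, ← mul_inv_rev,
          hXab b hb.1 a ha.1]⟩
      one_mem' := ⟨one_mem _, by group⟩
      inv_mem' := fun {a} ha => ⟨inv_mem ha.1, by
        rw [show g₀ * a⁻¹ * g₀⁻¹ = (g₀ * a * g₀⁻¹)⁻¹ by group, ha.2]⟩ }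
  have hUX : U ≤ X := fun t ht => ht.1
  have hUk : ∀ t ∈ U, π t = 1 → t = 1 := fun t ht h1 => by
    have hq := hPk (hXP (hUX ht)) h1
    have h2 : g₀ * t * g₀⁻¹ = t⁻¹ := ht.2
    rw [hcent g₀ t hq, mul_inv_cancel_right] at h2
    exact eq_one_of_coprime hQp hq (m := 2) (by norm_num) (by
      rw [pow_two]; exact mul_eq_one_iff_eq_inv.2 h2)
  have hUmap : EA ≤ U.map π := by
    intro e he
    obtain ⟨t, ht, hte⟩ := hXmap.ge (pow_mem he 2)
    have h2 : g₀ * (g₀ * t * g₀⁻¹) * g₀⁻¹ = t := by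
      have := same_action hQmax hQp hcent hXp (g := g₀ * g₀) (g' := 1)
        (by rw [map_mul, hg₀, map_one, swap_rels.2.2.2.2.2.2.2.2])
        (fun x hx => by
          rw [show g₀ * g₀ * x * (g₀ * g₀)⁻¹ = g₀ * (g₀ * x * g₀⁻¹) * g₀⁻¹ by group]
          exact hg₀X _ (hg₀X x hx))
        (fun x hx => by simpa using hx) ht
      rw [one_mul, inv_one, mul_one] at this
      refine Eq.trans ?_ this
      group
    refine ⟨t * (g₀ * t * g₀⁻¹)⁻¹, ⟨mul_mem ht (inv_mem (hg₀X t ht)), ?_⟩, ?_⟩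
    · rw [show g₀ * (t * (g₀ * t * g₀⁻¹)⁻¹) * g₀⁻¹ = (g₀ * t * g₀⁻¹) * (g₀ * (g₀ * t * g₀⁻¹) * g₀⁻¹)⁻¹ by group,
        h2, mul_inv_rev, inv_inv]
    · rw [map_mul, map_inv, map_mul, map_mul, map_inv, hg₀, hte, hinvE _ (pow_mem he 2), inv_inv, ← pow_add]
      obtain ⟨w, rfl⟩ := he
      rw [show (2 + 2 : ℕ) = 3 + 1 from rfl, pow_succ, T_cube, one_mul]
  have hUnorm : ∀ h ∈ P, π h * allA = allA * π h → ∀ t ∈ U, h * t * h⁻¹ ∈ U := fun h hh hc t ht => by
    refine ⟨hXnorm h hh t ht.1, ?_⟩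
    have := same_action hQmax hQp hcent hXp (g := g₀ * h) (g' := h * g₀)
      (by rw [map_mul, map_mul, hg₀, hc])
      (fun x hx => by
        rw [show g₀ * h * x * (g₀ * h)⁻¹ = g₀ * (h * x * h⁻¹) * g₀⁻¹ by group]
        exact hg₀X _ (hXnorm h hh x hx))
      (fun x hx => by
        rw [show h * g₀ * x * (h * g₀)⁻¹ = h * (g₀ * x * g₀⁻¹) * h⁻¹ by group]
        exact hXnorm h hh _ (hg₀X x hx)) ht.1
    calc g₀ * (h * t * h⁻¹) * g₀⁻¹ = g₀ * h * t * (g₀ * h)⁻¹ := by group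
      _ = h * (g₀ * t * g₀⁻¹) * h⁻¹ := by rw [this]; group
      _ = _ := by rw [ht.2]; group
  -- the shifts
  have hshift : ∀ (σ a : A18), σ ∈ SA → σ ^ 3 = 1 → a * σ * a⁻¹ = σ⁻¹ → a * a = 1 →
      ∃ u ∈ P, π u = σ ^ 2 ∧ u ^ 3 = 1 := by
    intro σ a hσ hσ3 haσ ha2
    obtain ⟨v, hv, hvσ⟩ := hPmap.ge hσ
    obtain ⟨V, hVdef⟩ : ∃ V, V = Q ⊔ Subgroup.zpowers v := ⟨_, rfl⟩
    have hVP : V ≤ P := hVdef ▸ sup_le hQP (Subgroup.zpowers_le.2 hv)
    have hVmap : V.map π = Subgroup.zpowers σ := by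
      rw [hVdef, Subgroup.map_sup, MonoidHom.map_zpowers, hvσ, (Subgroup.map_eq_bot_iff Q).2 hQk, bot_sup_eq]
    obtain ⟨g, hg, hgV⟩ := hlift V (hVdef ▸ le_sup_left) (hP.to_le hVP) a (fun e he => by
      rw [hVmap] at he ⊢
      obtain ⟨i, rfl⟩ := Subgroup.mem_zpowers_iff.1 he
      rw [← conj_zpow, haσ]
      exact zpow_mem (inv_mem (Subgroup.mem_zpowers _)) i)
    have hvV : v ∈ V := hVdef ▸ Subgroup.mem_sup_right (Subgroup.mem_zpowers v)
    have hg2 : g * (g * v * g⁻¹) * g⁻¹ = v := by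
      have := same_action hQmax hQp hcent (hP.to_le hVP) (g := g * g) (g' := 1)
        (by rw [map_mul, hg, map_one, ha2])
        (fun x hx => by
          rw [show g * g * x * (g * g)⁻¹ = g * (g * x * g⁻¹) * g⁻¹ by group]
          exact hgV _ (hgV x hx))
        (fun x hx => by simpa using hx) hvV
      rw [one_mul, inv_one, mul_one] at this
      refine Eq.trans ?_ this
      group
    obtain ⟨u, hu⟩ : ∃ u, u = v * (g * v * g⁻¹)⁻¹ := ⟨_, rfl⟩
    have huP : u ∈ P := hu ▸ mul_mem hv (inv_mem (hVP (hgV v hvV)))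
    have hπu : π u = σ ^ 2 := by
      rw [hu, map_mul, map_inv, map_mul, map_mul, map_inv, hg, hvσ, haσ, inv_inv, pow_two]
    have hinv : g * u * g⁻¹ = u⁻¹ := by
      rw [hu, show g * (v * (g * v * g⁻¹)⁻¹) * g⁻¹ = (g * v * g⁻¹) * (g * (g * v * g⁻¹) * g⁻¹)⁻¹ by group, hg2,
        mul_inv_rev, inv_inv]
    refine ⟨u, huP, hπu, ?_⟩
    have hq : u ^ 3 ∈ Q := hPk (pow_mem huP 3) (by rw [map_pow, hπu, ← pow_mul, pow_mul', hσ3, one_pow])
    have h1 : g * u ^ 3 * g⁻¹ = (u ^ 3)⁻¹ := by rw [← conj_pow, hinv, inv_pow]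
    rw [hcent g _ hq, mul_inv_cancel_right] at h1
    exact eq_one_of_coprime hQp hq (m := 2) (by norm_num) (by rw [pow_two]; exact mul_eq_one_iff_eq_inv.2 h1)
  obtain ⟨u₁, hu₁P, hu₁, hu₁3⟩ := hshift sh1 swapA sh1_mem sh1_cube swap_rels.1 swap_rels.2.2.1
  obtain ⟨u₂, hu₂P, hu₂, hu₂3⟩ := hshift sh2 swapB sh2_mem sh2_cube swap_rels.2.2.2.1 swap_rels.2.2.2.2.2.1
  have hu12 : Commute u₁ u₂ := by
    obtain ⟨g, hg, hgP⟩ := hlift P hQP hP swapA (by rw [hPmap]; exact swapA_norm)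
    refine comm_of_inverted hQmax hQp hcent hP hgP hu₁P hu₂P ?_ ?_ ?_
    · rw [hu₁, hu₂, ((show Commute sh1 sh2 from sh_comm).pow_pow 2 2).eq]
    · rw [hg, hu₁, ← conj_pow, swap_rels.1, inv_pow]
    · rw [hg, hu₂, ← conj_pow, swap_rels.2.1]
  obtain ⟨P₀, hP₀def⟩ : ∃ P₀, P₀ = U ⊔ (Subgroup.zpowers u₁ ⊔ Subgroup.zpowers u₂) := ⟨_, rfl⟩
  have hP₀P : P₀ ≤ P := hP₀def ▸ sup_le (hUX.trans hXP)
    (sup_le (Subgroup.zpowers_le.2 hu₁P) (Subgroup.zpowers_le.2 hu₂P))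
  have hP₀k : ∀ x ∈ P₀, π x = 1 → x = 1 := by
    intro x hx h1
    have hW : Subgroup.zpowers u₁ ⊔ Subgroup.zpowers u₂ ≤ Subgroup.normalizer (U : Set H) :=
      sup_le (Subgroup.zpowers_le.2 (mem_normalizer_of (hUnorm _ hu₁P (by
          rw [hu₁, ((show Commute allA sh1 from swap_rels.2.2.2.2.2.2.1).symm.pow_left 2).eq]))))
        (Subgroup.zpowers_le.2 (mem_normalizer_of (hUnorm _ hu₂P (by
          rw [hu₂, ((show Commute allA sh2 from swap_rels.2.2.2.2.2.2.2.1).symm.pow_left 2).eq]))))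
    have hW' : Subgroup.zpowers u₂ ≤ Subgroup.normalizer (Subgroup.zpowers u₁ : Set H) :=
      Subgroup.zpowers_le.2 (mem_normalizer_of fun t ht => by
        obtain ⟨i, rfl⟩ := Subgroup.mem_zpowers_iff.1 ht
        rw [(hu12.zpow_left i).symm.eq, mul_inv_cancel_right]
        exact zpow_mem (Subgroup.mem_zpowers _) i)
    rw [hP₀def, ← SetLike.mem_coe, Subgroup.coe_mul_of_right_le_normalizer_left _ _ hW] at hx
    obtain ⟨t, ht, w, hw, rfl⟩ := Set.mem_mul.1 hx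
    rw [Subgroup.coe_mul_of_right_le_normalizer_left _ _ hW'] at hw
    obtain ⟨w₁, hw₁, w₂, hw₂, rfl⟩ := Set.mem_mul.1 hw
    obtain ⟨i, rfl⟩ := Subgroup.mem_zpowers_iff.1 hw₁
    obtain ⟨j, rfl⟩ := Subgroup.mem_zpowers_iff.1 hw₂
    obtain ⟨v, hv⟩ := hXmap.le ⟨t, hUX ht, rfl⟩
    rw [← mul_assoc, map_mul, map_mul, ← hv, map_zpow, map_zpow, hu₁, hu₂, ← zpow_natCast, ← zpow_natCast,
      ← zpow_mul, ← zpow_mul] at h1
    obtain ⟨hv1, h3i, h3j⟩ := shift_unique _ _ _ h1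
    have ht1 : t = 1 := hUk t ht (by rw [← hv, hv1, map_one])
    have hz : ∀ (u : H) (n : ℤ), u ^ 3 = 1 → (3 : ℤ) ∣ n → u ^ n = 1 := by
      rintro u n hu ⟨m, rfl⟩
      rw [zpow_mul, zpow_ofNat, hu, one_zpow]
    rw [ht1, hz u₁ i hu₁3 (by omega), hz u₂ j hu₂3 (by omega), one_mul, one_mul]
  have hP₀map : SA ≤ P₀.map π := by
    refine sup_le (sup_le (hUmap.trans (Subgroup.map_mono (hP₀def ▸ le_sup_left))) ?_) ?_
    · rw [Subgroup.zpowers_le]
      refine ⟨u₁ ^ 2, pow_mem (hP₀def ▸ Subgroup.mem_sup_right (Subgroup.mem_sup_left (Subgroup.mem_zpowers u₁))) 2, ?_⟩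
      rw [map_pow, hu₁, ← pow_mul, show (2 * 2 : ℕ) = 3 + 1 from rfl, pow_succ, sh1_cube, one_mul]
    · rw [Subgroup.zpowers_le]
      refine ⟨u₂ ^ 2, pow_mem (hP₀def ▸ Subgroup.mem_sup_right (Subgroup.mem_sup_right (Subgroup.mem_zpowers u₂))) 2, ?_⟩
      rw [map_pow, hu₂, ← pow_mul, show (2 * 2 : ℕ) = 3 + 1 from rfl, pow_succ, sh2_cube, one_mul]
  -- a Sylow subgroup
  let Sy : Sylow 3 H := ⟨P, hP, fun {R} hR hPR => by
    refine AltE6.max_over_image π hQmax hQP hPR hR ?_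
    rw [hPmap]
    have hER : SA ≤ R.map π := hPmap ▸ Subgroup.map_mono hPR
    refine le_of_eq (Subgroup.eq_of_le_of_card_ge hER ?_).symm
    obtain ⟨j, hj⟩ := IsPGroup.iff_card.1 (hR.map π)
    refine le_trans ?_ SA_card
    rw [hj]
    refine Nat.pow_le_pow_right (by norm_num) ?_
    by_contra hjk
    exact num_checks.1 (card_A18 ▸ (pow_dvd_pow 3 (by omega : 9 ≤ j)).trans
      (hj ▸ (R.map π).card_subgroup_dvd_card))⟩
  have hidx : ¬ 3 ∣ P.index := Sy.not_dvd_index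
  -- the kernel part is trivial
  have hQbot : ∀ z ∈ Q, z = 1 := by
    have hdec : ∀ x : P, ∃ q : Q, (q : H)⁻¹ * x ∈ P₀ := fun x => by
      obtain ⟨x₀, hx₀, he⟩ := hP₀map (hPmap.le ⟨x, x.2, rfl⟩)
      refine ⟨⟨(x : H) * x₀⁻¹, hPk (mul_mem x.2 (inv_mem (hP₀P hx₀))) (by
        rw [map_mul, map_inv, he, mul_inv_cancel])⟩, ?_⟩
      show ((x : H) * x₀⁻¹)⁻¹ * x ∈ P₀
      rw [mul_inv_rev, inv_inv, inv_mul_cancel_right]
      exact hx₀
    choose θ hθ using hdec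
    have huniq : ∀ (x : P) (q : Q), (q : H)⁻¹ * x ∈ P₀ → θ x = q := fun x q hq => by
      have h1 : (θ x : H)⁻¹ * (q : H) ∈ P₀ := by
        have := mul_mem (hθ x) (inv_mem hq)
        rwa [mul_inv_rev, inv_inv, mul_assoc, mul_inv_cancel_left] at this
      exact Subtype.ext (inv_mul_eq_one.1 (hP₀k _ h1 (by
        rw [map_mul, map_inv, MonoidHom.mem_ker.1 (hQk (θ x).2), MonoidHom.mem_ker.1 (hQk q.2), inv_one, one_mul])))
    letI : CommGroup Q :=
      { (inferInstance : Group Q) with mul_comm := fun a b => Subtype.ext (hcent _ _ b.2) }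
    let Θ : P →* Q := MonoidHom.mk' θ fun a b => huniq _ _ (by
      have hc := hcent ((θ a : H)⁻¹ * a) _ (inv_mem (θ b).2)
      show ((θ a : H) * θ b)⁻¹ * ((a : H) * b) ∈ P₀
      have e : ((θ a : H) * θ b)⁻¹ * ((a : H) * b) = ((θ a : H)⁻¹ * a) * ((θ b : H)⁻¹ * b) := by
        rw [← mul_assoc ((θ a : H)⁻¹ * a), hc, mul_inv_rev]
        group
      rw [e]
      exact mul_mem (hθ a) (hθ b))
    intro z hz
    have hkey : ∀ (j : ℕ) (g : H), g⁻¹ * z ^ j * g ∈ P → g⁻¹ * z ^ j * g = z ^ j := fun j g _ => by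
      rw [hcent g⁻¹ _ (pow_mem hz j), inv_mul_cancel_right]
    have h1 := hm.hom_comm_eq_one hsimple hnc (MonoidHom.transfer Θ) z
    rw [MonoidHom.transfer_eq_pow Θ z hkey] at h1
    have h2 : θ ⟨z ^ P.index, pow_mem (hQP hz) _⟩ = ⟨z ^ P.index, pow_mem hz _⟩ := huniq _ _ (by simp)
    exact eq_one_of_coprime hQp hz hidx (congrArg Subtype.val (h2.symm.trans h1))
  -- the inverse map
  let πP : P →* SA := (π.comp P.subtype).codRestrict SA fun x => hPmap.le ⟨x, x.2, rfl⟩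
  have hπP : Function.Bijective πP := by
    refine ⟨(injective_iff_map_eq_one _).2 fun t ht => Subtype.ext (hQbot _ (hPk t.2 (congrArg Subtype.val ht))), ?_⟩
    rintro ⟨e, he⟩
    obtain ⟨t, ht, e'⟩ := hPmap.ge he
    exact ⟨⟨t, ht⟩, Subtype.ext e'⟩
  let eqv : P ≃* SA := MulEquiv.ofBijective πP hπP
  refine ⟨P.subtype.comp eqv.symm.toMonoidHom, P.subtype_injective.comp eqv.symm.injective, fun a => ?_⟩
  have hπs : ∀ x : SA, π (eqv.symm x : H) = x := fun x => congrArg Subtype.val (eqv.apply_symm_apply x)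
  obtain ⟨h, hh⟩ := hm.surj a
  let D : Subgroup H := (P ⊓ (SA.comap (MulAut.conj a).toMonoidHom).comap π).map (MulAut.conj h).toMonoidHom
  have hDM : D ≤ SA.comap π := by
    rintro _ ⟨t, ⟨-, ht⟩, rfl⟩
    show π (h * t * h⁻¹) ∈ SA
    rw [map_mul, map_mul, map_inv, hh]
    exact ht
  have hPM : P ≤ SA.comap π := fun t ht => hPmap.le ⟨t, ht, rfl⟩
  obtain ⟨m, hmM, hmD⟩ := exists_conj_into hPM hidx hDM ((hP.to_le inf_le_left).map _)
  obtain ⟨y', hy'P, hy'⟩ := hPmap.ge hmM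
  refine ⟨y'⁻¹ * m * h, fun x hx => ?_⟩
  show (y'⁻¹ * m * h) * (eqv.symm x : H) * (y'⁻¹ * m * h)⁻¹ = (eqv.symm ⟨a * x * a⁻¹, hx⟩ : H)
  have hD' : h * (eqv.symm x : H) * h⁻¹ ∈ D := ⟨_, ⟨(eqv.symm x).2, by
    show a * π (eqv.symm x : H) * a⁻¹ ∈ SA
    rw [hπs]
    exact hx⟩, rfl⟩
  have hin : (y'⁻¹ * m * h) * (eqv.symm x : H) * (y'⁻¹ * m * h)⁻¹ ∈ P := by
    rw [show (y'⁻¹ * m * h) * (eqv.symm x : H) * (y'⁻¹ * m * h)⁻¹ =
      y'⁻¹ * (m * (h * (eqv.symm x : H) * h⁻¹) * m⁻¹) * y' by group]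
    exact mul_mem (mul_mem (inv_mem hy'P) (hmD _ hD')) hy'P
  have : (⟨_, hin⟩ : P) = eqv.symm ⟨a * x * a⁻¹, hx⟩ := hπP.1 (Subtype.ext (by
    show π ((y'⁻¹ * m * h) * (eqv.symm x : H) * (y'⁻¹ * m * h)⁻¹) = π (eqv.symm ⟨a * x * a⁻¹, hx⟩ : H)
    simp only [map_mul, map_inv, hπs, hh, hy']
    group))
  exact congrArg Subtype.val this

end Cfsg.Agent.AltE8
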