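import Cfsg.Agent.Lib.AltE8.Moments
import Cfsg.Agent.Lib.ChevSt.SLRoots
import Cfsg.Agent.Lib.ChevLang.Regular
import Cfsg.Agent.Lib.ChevLang.Twist

/-!
# The quadratic and quartic identities of the roots of type E8

* `S2_eq`, `S4_eq` : the second and fourth moments;
* `fixed_le`       : a word of order three moves at least 150 roots.
-/

set_option autoImplicit false
set_option maxRecDepth 100000

namespace Cfsg.Agent.AltE8

open Cfsg.Lie Cfsg.Lie.ChevalleyDatum Cfsg.Agent.Chev Cfsg.Agent.ChevBN Cfsg.Agent.ChevSt Cfsg.Agent.ChevLang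

theorem sum_roots (g : List ℤ → ℤ) :
    ∑ r ∈ Finset.range 240, g ((List.range 8).map fun j => chevE8.cartan j r) = (cartTab.map g).sum := by
  rw [← cartTab_eq, List.map_map, ← List.sum_toFinset _ List.nodup_range, List.toFinset_range]
  rfl

theorem row_getD (r : ℕ) (i : Fin 8) : ((List.range 8).map fun j => chevE8.cartan j r).getD i.val 0 = chevE8.cartan i.val r := by
  rw [List.getD_eq_getElem _ _ (by simp [i.isLt]), List.getElem_map, List.getElem_range]

theorem gram_entry (k j : Fin 8) : ent gram k.val j.val = chevE8.cartan j.val (chevE8.simple k.val) := by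
  rw [ent, ← gram_eq, List.getD_eq_getElem _ [] (by simp [k.isLt]), List.getElem_map, List.getElem_range, row_getD]

/-- The value of a root on a vector of coroots. -/
def val (x : Fin 8 → ℤ) (r : ℕ) : ℤ := ∑ j, x j * chevE8.cartan j.val r

theorem val_add (x y : Fin 8 → ℤ) (r : ℕ) : val (x + y) r = val x r + val y r := by
  simp [val, add_mul, Finset.sum_add_distrib]

theorem val_sub (x y : Fin 8 → ℤ) (r : ℕ) : val (x - y) r = val x r - val y r := by
  simp [val, sub_mul, Finset.sum_sub_distrib]

theorem val_neg (x : Fin 8 → ℤ) (r : ℕ) : val (-x) r = -val x r := by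
  simp [val, Finset.sum_neg_distrib]

theorem val_smul (c : ℤ) (x : Fin 8 → ℤ) (r : ℕ) : val (c • x) r = c * val x r := by
  simp [val, Finset.mul_sum, mul_assoc]

/-- Second moments. -/
def S2 (x y : Fin 8 → ℤ) : ℤ := ∑ r ∈ Finset.range 240, val x r * val y r

theorem lin (u : Fin 8 → ℤ) (f : ℕ → ℤ) :
    ∑ r ∈ Finset.range 240, val u r * f r = ∑ i, u i * ∑ r ∈ Finset.range 240, chevE8.cartan i.val r * f r := by
  simp only [val, Finset.sum_mul, Finset.mul_sum]
  rw [Finset.sum_comm]
  exact Finset.sum_congr rfl fun i _ => Finset.sum_congr rfl fun r _ => mul_assoc _ _ _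

theorem S2_left (i : Fin 8) (y : Fin 8 → ℤ) :
    ∑ r ∈ Finset.range 240, chevE8.cartan i.val r * val y r = 60 * val y (chevE8.simple i.val) := by
  simp only [val, Finset.mul_sum]
  rw [Finset.sum_comm]
  refine Finset.sum_congr rfl fun j _ => ?_
  have h := moment_two i j
  rw [← sum_roots fun c => c.getD i.val 0 * c.getD j.val 0] at h
  simp only [row_getD, gram_entry] at h
  rw [show 60 * (y j * chevE8.cartan j.val (chevE8.simple i.val)) =
    y j * (60 * chevE8.cartan j.val (chevE8.simple i.val)) by ring, ← h, Finset.mul_sum]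
  exact Finset.sum_congr rfl fun r _ => by ring

theorem S2_eq (x y : Fin 8 → ℤ) : S2 x y = ∑ i, x i * (60 * val y (chevE8.simple i.val)) := by
  rw [S2, lin]
  simp only [S2_left]

theorem S2_comm (x y : Fin 8 → ℤ) : S2 x y = S2 y x := Finset.sum_congr rfl fun r _ => mul_comm _ _

theorem S2_add_left (x y z : Fin 8 → ℤ) : S2 (x + y) z = S2 x z + S2 y z := by
  simp only [S2, val_add, add_mul, Finset.sum_add_distrib]

theorem S2_smul_left (c : ℤ) (x z : Fin 8 → ℤ) : S2 (c • x) z = c * S2 x z := by
  simp only [S2, val_smul, Finset.mul_sum, mul_assoc]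

theorem S4_one (i j k : Fin 8) (z : Fin 8 → ℤ) :
    300 * ∑ r ∈ Finset.range 240, chevE8.cartan i.val r * (chevE8.cartan j.val r * (chevE8.cartan k.val r * val z r)) =
      (60 * chevE8.cartan j.val (chevE8.simple i.val)) * (60 * val z (chevE8.simple k.val)) +
      (60 * chevE8.cartan k.val (chevE8.simple i.val)) * (60 * val z (chevE8.simple j.val)) +
      (60 * val z (chevE8.simple i.val)) * (60 * chevE8.cartan k.val (chevE8.simple j.val)) := by
  simp only [val, Finset.mul_sum, Finset.sum_mul]
  rw [Finset.sum_comm, ← Finset.sum_add_distrib, ← Finset.sum_add_distrib]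
  refine Finset.sum_congr rfl fun l _ => ?_
  have h := moment_four i j k l
  rw [← sum_roots fun c => c.getD i.val 0 * (c.getD j.val 0 * (c.getD k.val 0 * c.getD l.val 0)),
    Finset.mul_sum] at h
  simp only [row_getD, gram_entry] at h
  calc _ = z l * ∑ r ∈ Finset.range 240, 300 * (chevE8.cartan i.val r * (chevE8.cartan j.val r *
        (chevE8.cartan k.val r * chevE8.cartan l.val r))) := by
        rw [Finset.mul_sum]; exact Finset.sum_congr rfl fun r _ => by ring
    _ = _ := by rw [h]; ring

/-- Fourth moments. -/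
theorem S4_eq (u v w z : Fin 8 → ℤ) :
    300 * ∑ r ∈ Finset.range 240, val u r * (val v r * (val w r * val z r)) =
      S2 u v * S2 w z + S2 u w * S2 v z + S2 u z * S2 v w := by
  have h2 : ∀ (i j : Fin 8), 300 * ∑ r ∈ Finset.range 240,
      chevE8.cartan i.val r * (chevE8.cartan j.val r * (val w r * val z r)) =
      (60 * chevE8.cartan j.val (chevE8.simple i.val)) * S2 w z +
      (60 * val w (chevE8.simple i.val)) * (60 * val z (chevE8.simple j.val)) +
      (60 * val z (chevE8.simple i.val)) * (60 * val w (chevE8.simple j.val)) := by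
    intro i j
    have e := lin w fun r => chevE8.cartan i.val r * (chevE8.cartan j.val r * val z r)
    rw [Finset.sum_congr rfl fun r _ => show chevE8.cartan i.val r * (chevE8.cartan j.val r * (val w r * val z r)) =
      val w r * (chevE8.cartan i.val r * (chevE8.cartan j.val r * val z r)) by ring, e, Finset.mul_sum]
    have h1 : ∀ k : Fin 8, 300 * (w k * ∑ r ∈ Finset.range 240,
        chevE8.cartan k.val r * (chevE8.cartan i.val r * (chevE8.cartan j.val r * val z r))) =
        w k * ((60 * chevE8.cartan j.val (chevE8.simple i.val)) * (60 * val z (chevE8.simple k.val)) +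
          (60 * chevE8.cartan k.val (chevE8.simple i.val)) * (60 * val z (chevE8.simple j.val)) +
          (60 * val z (chevE8.simple i.val)) * (60 * chevE8.cartan k.val (chevE8.simple j.val))) := fun k => by
      rw [← S4_one i j k z, mul_left_comm]
      congr 2
      exact Finset.sum_congr rfl fun r _ => by ring
    rw [Finset.sum_congr rfl fun k _ => h1 k, S2_eq]
    simp only [mul_add, Finset.sum_add_distrib]
    congr 1
    · congr 1
      · rw [Finset.mul_sum]
        exact Finset.sum_congr rfl fun k _ => by ring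
      · rw [show val w (chevE8.simple i.val) = ∑ k : Fin 8, w k * chevE8.cartan k.val (chevE8.simple i.val) from rfl,
          Finset.mul_sum, Finset.sum_mul]
        exact Finset.sum_congr rfl fun k _ => by ring
    · rw [show val w (chevE8.simple j.val) = ∑ k : Fin 8, w k * chevE8.cartan k.val (chevE8.simple j.val) from rfl,
        Finset.mul_sum, Finset.mul_sum]
      exact Finset.sum_congr rfl fun k _ => by ring
  have h3 : ∀ i : Fin 8, 300 * ∑ r ∈ Finset.range 240, chevE8.cartan i.val r * (val v r * (val w r * val z r)) =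
      (60 * val v (chevE8.simple i.val)) * S2 w z + (60 * val w (chevE8.simple i.val)) * S2 v z +
      (60 * val z (chevE8.simple i.val)) * S2 v w := by
    intro i
    rw [Finset.sum_congr rfl fun r _ => show chevE8.cartan i.val r * (val v r * (val w r * val z r)) =
      val v r * (chevE8.cartan i.val r * (val w r * val z r)) by ring, lin, Finset.mul_sum]
    have h1 : ∀ j : Fin 8, 300 * (v j * ∑ r ∈ Finset.range 240,
        chevE8.cartan j.val r * (chevE8.cartan i.val r * (val w r * val z r))) =
        v j * ((60 * chevE8.cartan j.val (chevE8.simple i.val)) * S2 w z +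
          (60 * val w (chevE8.simple i.val)) * (60 * val z (chevE8.simple j.val)) +
          (60 * val z (chevE8.simple i.val)) * (60 * val w (chevE8.simple j.val))) := fun j => by
      rw [← h2 i j, mul_left_comm]
      congr 2
      exact Finset.sum_congr rfl fun r _ => by ring
    rw [Finset.sum_congr rfl fun j _ => h1 j, S2_eq v z, S2_eq v w]
    simp only [mul_add, Finset.sum_add_distrib, Finset.mul_sum]
    congr 1
    congr 1
    · rw [val, Finset.mul_sum, Finset.sum_mul]
      exact Finset.sum_congr rfl fun j _ => by ring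
    · exact Finset.sum_congr rfl fun j _ => by ring
    · exact Finset.sum_congr rfl fun j _ => by ring
  rw [lin, Finset.mul_sum, Finset.sum_congr rfl fun i _ => show 300 * (u i * _) = u i * _ from
    (mul_left_comm _ _ _).trans (congrArg (u i * ·) (h3 i)), S2_eq u v, S2_eq u w, S2_eq u z]
  simp only [mul_add, Finset.sum_add_distrib, Finset.sum_mul, mul_assoc]

/-- The vector of a root. -/
def vec (b : ℕ) : Fin 8 → ℤ := fun j => (chevE8.coroot.getD b #[]).getD j.val 0

theorem val_vec (b r : ℕ) : val (vec b) r = chevE8.pairing b r := (Chev.pairing_eq_sum chevE8 b r).symm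

theorem good8 : Chev.Good chevE8 := Chev.DataE8.good

theorem pairing_wl (l : List (Fin chevE8.rank)) {r t : ℕ} (hr : r < chevE8.nroots) (ht : t < chevE8.nroots) :
    chevE8.pairing (wl chevE8 l r) (wl chevE8 l t) = chevE8.pairing r t := by
  induction l with
  | nil => rfl
  | cons i l ih =>
    exact (pairing_refl good8 slRootsE8 i.isLt (wl_lt good8 rootsE8 l hr) (wl_lt good8 rootsE8 l ht)).trans ih

/-- A word of order three fixes at most ninety roots. -/
theorem fixed_le (l : List (Fin chevE8.rank)) (h3 : ∀ r < 240, wl chevE8 l (wl chevE8 l (wl chevE8 l r)) = r)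
    {b : ℕ} (hb : b < 240) (hbm : wl chevE8 l b ≠ b) :
    ((Finset.range 240).filter fun r => wl chevE8 l r = r).card ≤ 90 := by
  have hlt : ∀ r < 240, wl chevE8 l r < 240 := fun r hr => wl_lt good8 rootsE8 l hr
  set W := wl chevE8 l with hW
  set c := W b with hc
  set d := W c with hd
  have hcl : c < 240 := hlt _ hb
  have hdl : d < 240 := hlt _ hcl
  have hdb : W d = b := h3 b hb
  set x := vec b - vec c with hx
  set y := vec c - vec d with hy
  have hinv : ∀ {p q r : ℕ}, p < 240 → q < 240 → r < 240 →
      val (vec (W p) - vec (W q)) (W r) = val (vec p - vec q) r := fun hp hq hr => by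
    simp only [val_sub, val_vec]
    rw [pairing_wl l hp hr, pairing_wl l hq hr]
  have hshift : ∀ {p q : ℕ}, p < 240 → q < 240 →
      S2 (vec (W p) - vec (W q)) (vec (W p) - vec (W q)) = S2 (vec p - vec q) (vec p - vec q) := by
    intro p q hp hq
    refine (Finset.sum_nbij' (fun r => W r) (fun r => W (W r)) ?_ ?_ ?_ ?_ ?_).symm
    · intro r hr; exact Finset.mem_coe.2 (Finset.mem_range.2 (hlt r (Finset.mem_range.1 hr)))
    · intro r hr; exact Finset.mem_coe.2 (Finset.mem_range.2 (hlt _ (hlt r (Finset.mem_range.1 hr))))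
    · intro r hr; exact h3 r (Finset.mem_range.1 hr)
    · intro r hr; exact h3 r (Finset.mem_range.1 hr)
    · intro r hr; rw [hinv hp hq (Finset.mem_range.1 hr)]
  set X := S2 x x with hX
  set Y := S2 x y with hY
  have hyy : S2 y y = X := hshift hb hcl
  have hzz : S2 (x + y) (x + y) = X := by
    have e : x + y = (-1 : ℤ) • (vec d - vec b) := by
      funext j; simp [hx, hy]
    have h1 : S2 (vec d - vec b) (vec d - vec b) = X := by
      have := hshift hcl hdl
      rw [← hd, hdb, hyy] at this
      exact this
    rw [e, S2_smul_left, S2_comm, S2_smul_left, h1]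
    ring
  have hYX : 2 * Y = -X := by
    rw [S2_add_left, S2_comm x, S2_comm y (x + y), S2_add_left, S2_add_left, S2_comm y x, hyy, ← hX, ← hY] at hzz
    linarith
  have hXpos : 0 < X := by
    refine lt_of_le_of_ne (Finset.sum_nonneg fun r _ => mul_self_nonneg _) fun h0 => hbm ?_
    have h1 := (Finset.sum_eq_zero_iff_of_nonneg fun r _ => mul_self_nonneg (val x r)).1 h0.symm b
      (Finset.mem_range.2 hb)
    rw [mul_self_eq_zero, val_sub, val_vec, val_vec, good8.pairing_self b hb, sub_eq_zero] at h1
    exact ((slRootsE8.eq c hcl b hb).1 h1.symm).symm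
  set Q : ℕ → ℤ := fun r => val x r * val x r + val x r * val y r + val y r * val y r with hQ
  have hfix : ∀ r < 240, W r = r → Q r = 0 := by
    intro r hr hfr
    have h1 : val (vec c - vec d) r = val (vec b - vec c) r := by
      have := hinv hb hcl hr
      rwa [hfr] at this
    have h2 : val (vec d - vec b) r = val (vec c - vec d) r := by
      have := hinv hcl hdl hr
      rwa [hfr, ← hd, hdb] at this
    have h0 : val x r = 0 := by
      simp only [hx, val_sub] at h1 h2 ⊢
      omega
    have h0' : val y r = 0 := by rw [hy, h1, ← hx, h0]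
    simp [hQ, h0, h0']
  set mov := (Finset.range 240).filter fun r => W r ≠ r with hmov
  have hsum : ∑ r ∈ mov, Q r = ∑ r ∈ Finset.range 240, Q r :=
    Finset.sum_subset (Finset.filter_subset _ _) fun r hr hn => hfix r (Finset.mem_range.1 hr)
      (by_contra fun h => hn (Finset.mem_filter.2 ⟨hr, h⟩))
  have hsum2 : ∑ r ∈ mov, Q r ^ 2 ≤ ∑ r ∈ Finset.range 240, Q r ^ 2 :=
    Finset.sum_le_sum_of_subset_of_nonneg (Finset.filter_subset _ _) fun r _ _ => sq_nonneg _
  have hQ1 : 2 * ∑ r ∈ Finset.range 240, Q r = 3 * X := by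
    have : ∑ r ∈ Finset.range 240, Q r = X + Y + S2 y y := by
      simp only [hQ, Finset.sum_add_distrib, hX, hY, S2]
    rw [this, hyy]
    linarith
  have hQ2 : 2 * (300 * ∑ r ∈ Finset.range 240, Q r ^ 2) = 9 * X ^ 2 := by
    have e : ∀ r, Q r ^ 2 = val x r * (val x r * (val x r * val x r)) + val y r * (val y r * (val y r * val y r)) +
        3 * (val x r * (val x r * (val y r * val y r))) + 2 * (val x r * (val x r * (val x r * val y r))) +
        2 * (val x r * (val y r * (val y r * val y r))) := fun r => by simp only [hQ]; ring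
    simp only [e, Finset.sum_add_distrib, ← Finset.mul_sum, mul_add]
    have e1 := S4_eq x x x x
    have e2 := S4_eq y y y y
    have e3 := S4_eq x x y y
    have e4 := S4_eq x x x y
    have e5 := S4_eq x y y y
    rw [← hX, ← hY, hyy] at *
    have e6 : 4 * (Y * Y) = X * X := by linear_combination (2 * Y - X) * hYX
    linear_combination 2 * e1 + 2 * e2 + 6 * e3 + 4 * e4 + 4 * e5 + 3 * e6 + (12 * X) * hYX
  have hcs := Finset.sum_mul_sq_le_sq_mul_sq mov (fun _ => (1 : ℤ)) Q
  simp only [one_mul, one_pow, Finset.sum_const, nsmul_eq_mul, mul_one] at hcs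
  rw [hsum] at hcs
  have hmono : (mov.card : ℤ) * ∑ r ∈ mov, Q r ^ 2 ≤ (mov.card : ℤ) * ∑ r ∈ Finset.range 240, Q r ^ 2 :=
    mul_le_mul_of_nonneg_left hsum2 (by positivity)
  have h150 : 150 ≤ mov.card := by
    by_contra hlt'
    have hm : (mov.card : ℤ) ≤ 149 := by omega
    have hXX : 0 < X ^ 2 := pow_pos hXpos 2
    nlinarith [mul_le_mul_of_nonneg_right hm (Finset.sum_nonneg fun (r : ℕ) (_ : r ∈ Finset.range 240) => sq_nonneg (Q r))]
  have hsplit := Finset.card_filter_add_card_filter_not (s := Finset.range 240) fun r => W r = r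
  rw [Finset.card_range] at hsplit
  have : mov.card = ((Finset.range 240).filter fun r => ¬ W r = r).card := rfl
  omega

end Cfsg.Agent.AltE8
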