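import Cfsg.Agent.EqLemmas
import Mathlib.FieldTheory.Finite.Basic
import Mathlib.LinearAlgebra.Dimension.Constructions

/-!
# Weight spaces of elementary abelian groups of exponent three

* `Wt`           : a representation with a cube root of unity;
* `finrank_cond` : a joint eigenspace is the sum of its weight spaces;
* `wn_le`        : the weights of a twisted representation;
* `fix_upper`, `fix_lower` : fixed vectors of an element of order three permuting the weights.
-/

set_option autoImplicit false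

namespace Cfsg.Agent.AltE8

variable {K : Type} [Field K] {M : Type} [AddCommGroup M] [Module K M] {k : ℕ}

/-- The pairing. -/
def dot (u v : Fin k → ZMod 3) : ZMod 3 := ∑ i, u i * v i

theorem dot_comm (u v : Fin k → ZMod 3) : dot u v = dot v u := Finset.sum_congr rfl fun _ _ => mul_comm _ _

theorem dot_add (u v w : Fin k → ZMod 3) : dot u (v + w) = dot u v + dot u w := by
  simp [dot, mul_add, Finset.sum_add_distrib]

theorem dot_sub_left (u u' v : Fin k → ZMod 3) : dot (u - u') v = dot u v - dot u' v := by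
  simp [dot, sub_mul, Finset.sum_sub_distrib]

theorem dot_neg_left (u v : Fin k → ZMod 3) : dot (-u) v = -dot u v := by
  simp [dot, Finset.sum_neg_distrib]

/-- A representation of an elementary abelian group of exponent three, with a root of unity. -/
structure Wt (K : Type) [Field K] (M : Type) [AddCommGroup M] [Module K M] (k : ℕ) where
  ω : K
  ω_cube : ω ^ 3 = 1
  ω_ne : ω ≠ 1
  three : (3 : K) ≠ 0
  ρ : (Fin k → ZMod 3) → Module.End K M
  ρ_zero : ρ 0 = 1
  ρ_add : ∀ a b, ρ (a + b) = ρ a * ρ b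

namespace Wt

variable (W : Wt K M k)

/-- Powers of the root of unity. -/
def z (a : ZMod 3) : K := W.ω ^ a.val

theorem z_add (a b : ZMod 3) : W.z (a + b) = W.z a * W.z b := by
  rw [z, z, z, ← pow_add, ZMod.val_add, pow_eq_pow_mod (a.val + b.val) W.ω_cube]

theorem z_zero : W.z 0 = 1 := by rw [z, ZMod.val_zero, pow_zero]

theorem z_ne_one {a : ZMod 3} (ha : a ≠ 0) : W.z a ≠ 1 := by
  have hcases : ∀ a : ZMod 3, a ≠ 0 → a.val = 1 ∨ a.val = 2 := by decide
  rcases hcases a ha with h | h <;> rw [z, h]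
  · rw [pow_one]; exact W.ω_ne
  · intro e
    refine W.ω_ne ?_
    have := W.ω_cube
    rwa [pow_succ, e, one_mul] at this

theorem z_injective {a b : ZMod 3} (h : W.z a = W.z b) : a = b := by
  by_contra hne
  refine W.z_ne_one (sub_ne_zero.2 hne) ?_
  have h0 : W.z b ≠ 0 := pow_ne_zero _ fun e => by simpa [e] using W.ω_cube
  refine mul_right_cancel₀ h0 ?_
  rw [← W.z_add, sub_add_cancel, one_mul, h]

include W in
theorem three_pow : (3 : K) ^ k ≠ 0 := pow_ne_zero _ W.three

theorem orth (u : Fin k → ZMod 3) : ∑ v, W.z (dot u v) = if u = 0 then (3 : K) ^ k else 0 := by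
  by_cases hu : u = 0
  · rw [if_pos hu, hu]
    simp [dot, W.z_zero]
  · rw [if_neg hu]
    obtain ⟨i, hi⟩ := Function.ne_iff.1 hu
    have hd : dot u (Pi.single i 1) = u i := by simp [dot, Pi.single_apply]
    have e : ∑ v, W.z (dot u v) = W.z (u i) * ∑ v, W.z (dot u v) := by
      conv_lhs => rw [← Equiv.sum_comp (Equiv.addLeft (Pi.single i (1 : ZMod 3)))]
      rw [Finset.mul_sum]
      exact Finset.sum_congr rfl fun v _ => by rw [Equiv.coe_addLeft, dot_add, W.z_add, hd]
    have h0 : (W.z (u i) - 1) * ∑ v, W.z (dot u v) = 0 := by rw [sub_mul, one_mul, ← e, sub_self]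
    exact (mul_eq_zero.1 h0).resolve_left (sub_ne_zero.2 (W.z_ne_one hi))

/-- The projection to a weight space. -/
def proj (u : Fin k → ZMod 3) : Module.End K M := ((3 : K) ^ k)⁻¹ • ∑ v, W.z (-dot u v) • W.ρ v

theorem proj_apply (u : Fin k → ZMod 3) (x : M) :
    W.proj u x = ((3 : K) ^ k)⁻¹ • ∑ v, W.z (-dot u v) • W.ρ v x := by
  simp [proj, LinearMap.sum_apply]

theorem ρ_apply_add (a b : Fin k → ZMod 3) (x : M) : W.ρ (a + b) x = W.ρ a (W.ρ b x) := by
  rw [W.ρ_add, Module.End.mul_apply]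

theorem ρ_proj (w u : Fin k → ZMod 3) (x : M) : W.ρ w (W.proj u x) = W.z (dot u w) • W.proj u x := by
  rw [proj_apply, map_smul, map_sum, smul_comm]
  congr 1
  rw [Finset.smul_sum]
  conv_rhs => rw [← Equiv.sum_comp (Equiv.addLeft w)]
  refine Finset.sum_congr rfl fun v _ => ?_
  rw [map_smul, ← W.ρ_apply_add, Equiv.coe_addLeft, smul_smul, ← W.z_add, dot_add]
  congr 2
  abel

theorem proj_ρ (w u : Fin k → ZMod 3) (x : M) : W.proj u (W.ρ w x) = W.ρ w (W.proj u x) := by
  rw [proj_apply, proj_apply, map_smul, map_sum]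
  congr 1
  exact Finset.sum_congr rfl fun v _ => by rw [map_smul, ← W.ρ_apply_add, ← W.ρ_apply_add, add_comm]

theorem sum_proj (x : M) : ∑ u, W.proj u x = x := by
  simp only [proj_apply, ← Finset.smul_sum]
  rw [Finset.sum_comm]
  have h : ∀ v, ∑ u, W.z (-dot u v) • W.ρ v x = (if v = 0 then (3 : K) ^ k else 0) • W.ρ v x := fun v => by
    rw [← Finset.sum_smul, ← W.orth v, ← Equiv.sum_comp (Equiv.neg _)]
    congr 1
    exact Finset.sum_congr rfl fun u _ => by rw [Equiv.neg_apply, dot_neg_left, neg_neg, dot_comm]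
  rw [Finset.sum_congr rfl fun v _ => h v, Finset.sum_eq_single 0 (fun v _ hv => by rw [if_neg hv, zero_smul])
    (by simp), if_pos rfl, smul_smul, inv_mul_cancel₀ W.three_pow, one_smul, W.ρ_zero, Module.End.one_apply]

/-- A joint eigenspace. -/
def cond {ι : Type} (vs : ι → Fin k → ZMod 3) (c : ι → ZMod 3) : Submodule K M :=
  ⨅ i, LinearMap.eqLocus (W.ρ (vs i)) (W.z (c i) • LinearMap.id)

theorem mem_cond {ι : Type} {vs : ι → Fin k → ZMod 3} {c : ι → ZMod 3} {x : M} :
    x ∈ W.cond vs c ↔ ∀ i, W.ρ (vs i) x = W.z (c i) • x := by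
  simp only [cond, Submodule.mem_iInf]
  exact Iff.rfl

/-- A weight space. -/
def ws (u : Fin k → ZMod 3) : Submodule K M := W.cond id fun v => dot u v

theorem mem_ws {u : Fin k → ZMod 3} {x : M} : x ∈ W.ws u ↔ ∀ v, W.ρ v x = W.z (dot u v) • x := W.mem_cond

/-- The dimension of a weight space. -/
noncomputable def wn (u : Fin k → ZMod 3) : ℕ := Module.finrank K (W.ws u)

theorem proj_mem (u : Fin k → ZMod 3) (x : M) : W.proj u x ∈ W.ws u :=
  W.mem_ws.2 fun v => W.ρ_proj v u x

theorem proj_of_mem {u : Fin k → ZMod 3} {x : M} (hx : x ∈ W.ws u) (w : Fin k → ZMod 3) :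
    W.proj w x = if w = u then x else 0 := by
  have h : W.proj w x = (((3 : K) ^ k)⁻¹ * ∑ v, W.z (dot (u - w) v)) • x := by
    rw [proj_apply, mul_smul, Finset.sum_smul]
    congr 1
    refine Finset.sum_congr rfl fun v _ => ?_
    rw [W.mem_ws.1 hx v, smul_smul, ← W.z_add, dot_sub_left]
    congr 2
    abel
  rw [h, W.orth]
  by_cases hwu : w = u
  · rw [if_pos (by rw [hwu, sub_self]), if_pos hwu, inv_mul_cancel₀ W.three_pow, one_smul]
  · rw [if_neg (fun e => hwu (sub_eq_zero.1 e).symm), if_neg hwu, mul_zero, zero_smul]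

theorem proj_eq_zero {ι : Type} {vs : ι → Fin k → ZMod 3} {c : ι → ZMod 3} {x : M} (hx : x ∈ W.cond vs c)
    {u : Fin k → ZMod 3} {i : ι} (hu : dot u (vs i) ≠ c i) : W.proj u x = 0 := by
  have h1 := W.ρ_proj (vs i) u x
  rw [← W.proj_ρ, W.mem_cond.1 hx i, map_smul] at h1
  have h2 : (W.z (c i) - W.z (dot u (vs i))) • W.proj u x = 0 := by rw [sub_smul, h1, sub_self]
  exact (smul_eq_zero.1 h2).resolve_left (sub_ne_zero.2 fun e => hu (W.z_injective e).symm)

theorem ws_le_cond {ι : Type} {vs : ι → Fin k → ZMod 3} {c : ι → ZMod 3} {u : Fin k → ZMod 3}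
    (hu : ∀ i, dot u (vs i) = c i) : W.ws u ≤ W.cond vs c := fun x hx =>
  W.mem_cond.2 fun i => by rw [W.mem_ws.1 hx (vs i), hu i]

theorem sum_proj_cond {ι : Type} [Fintype ι] {vs : ι → Fin k → ZMod 3} {c : ι → ZMod 3} {x : M}
    (hx : x ∈ W.cond vs c) :
    ∑ u ∈ Finset.univ.filter (fun u => ∀ i, dot u (vs i) = c i), W.proj u x = x := by
  rw [Finset.sum_filter]
  conv_rhs => rw [← W.sum_proj x]
  refine Finset.sum_congr rfl fun u _ => ?_
  split_ifs with h
  · rfl
  · obtain ⟨i, hi⟩ := not_forall.1 h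
    exact (W.proj_eq_zero hx hi).symm

/-- Assembling weight vectors. -/
def assemble (J : Finset (Fin k → ZMod 3)) : (∀ u : J, W.ws u.1) →ₗ[K] M :=
  ∑ u : J, (W.ws u.1).subtype ∘ₗ LinearMap.proj u

theorem assemble_apply (J : Finset (Fin k → ZMod 3)) (f : ∀ u : J, W.ws u.1) :
    W.assemble J f = ∑ u : J, (f u : M) := by
  simp [assemble, LinearMap.sum_apply]

/-- The projections to weight spaces. -/
def split (J : Finset (Fin k → ZMod 3)) : M →ₗ[K] (∀ u : J, W.ws u.1) :=
  LinearMap.pi fun u => (W.proj u.1).codRestrict _ (W.proj_mem u.1)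

variable [FiniteDimensional K M]

/-- A joint eigenspace is the sum of its weight spaces. -/
theorem finrank_cond {ι : Type} [Fintype ι] (vs : ι → Fin k → ZMod 3) (c : ι → ZMod 3) :
    Module.finrank K (W.cond vs c) = ∑ u ∈ Finset.univ.filter (fun u => ∀ i, dot u (vs i) = c i), W.wn u := by
  classical
  set J := Finset.univ.filter (fun u => ∀ i, dot u (vs i) = c i) with hJ
  have hmem : ∀ f, W.assemble J f ∈ W.cond vs c := fun f => by
    rw [assemble_apply]
    exact sum_mem fun u _ => W.ws_le_cond (Finset.mem_filter.1 u.2).2 (f u).2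
  let e : ↥(W.cond vs c) ≃ₗ[K] (∀ u : J, W.ws u.1) :=
    LinearEquiv.ofLinearMap ((W.split J).comp (W.cond vs c).subtype) ((W.assemble J).codRestrict _ hmem)
      (LinearMap.ext fun f => funext fun u => Subtype.ext (by
        show W.proj u.1 (W.assemble J f) = (f u : M)
        rw [assemble_apply, map_sum, Finset.sum_eq_single u (fun w _ hw => by
          rw [W.proj_of_mem (f w).2, if_neg (fun e' => hw (Subtype.ext e'.symm))]) (by simp),
          W.proj_of_mem (f u).2, if_pos rfl]))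
      (LinearMap.ext fun x => Subtype.ext (by
        show W.assemble J (W.split J x.1) = x.1
        rw [assemble_apply]
        exact (Finset.sum_coe_sort J (fun u => W.proj u x.1)).trans (W.sum_proj_cond x.2)))
  rw [e.finrank_eq, Module.finrank_pi_fintype, ← Finset.sum_coe_sort J]
  rfl

omit [FiniteDimensional K M] in
theorem map_ws {L : Module.End K M} {f : (Fin k → ZMod 3) → (Fin k → ZMod 3)} (hf : Function.Surjective f)
    (hL : ∀ v x, L (W.ρ v x) = W.ρ (f v) (L x)) {u u' : Fin k → ZMod 3} (hu : ∀ v, dot u' (f v) = dot u v)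
    {x : M} (hx : x ∈ W.ws u) : L x ∈ W.ws u' := W.mem_ws.2 fun w => by
  obtain ⟨v, rfl⟩ := hf w
  rw [← hL, W.mem_ws.1 hx v, map_smul, hu]

/-- Twisting does not lower dimensions. -/
theorem wn_le {L : Module.End K M} (hLi : Function.Injective L) {f : (Fin k → ZMod 3) → (Fin k → ZMod 3)}
    (hf : Function.Surjective f) (hL : ∀ v x, L (W.ρ v x) = W.ρ (f v) (L x)) {u u' : Fin k → ZMod 3}
    (hu : ∀ v, dot u' (f v) = dot u v) : W.wn u ≤ W.wn u' :=
  LinearMap.finrank_le_finrank_of_injective (f := L.restrict fun _ hx => W.map_ws hf hL hu hx)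
    fun _ _ h => Subtype.ext (hLi (congrArg Subtype.val h))

section Perm

variable {L : Module.End K M} {f f' : (Fin k → ZMod 3) → (Fin k → ZMod 3)}
  (hf : Function.Bijective f) (hL : ∀ v x, L (W.ρ v x) = W.ρ (f v) (L x))
  (hf' : ∀ u v, dot (f' u) (f v) = dot u v)

omit [FiniteDimensional K M] in
include hf hL hf' in
theorem L_proj (u : Fin k → ZMod 3) (x : M) : L (W.proj u x) = W.proj (f' u) (L x) := by
  rw [proj_apply, proj_apply, map_smul, map_sum]
  congr 1
  conv_rhs => rw [← (Equiv.ofBijective f hf).sum_comp]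
  exact Finset.sum_congr rfl fun v _ => by rw [map_smul, hL, Equiv.ofBijective_apply, hf']

include hf hL hf' in
/-- Fixed vectors are determined by their components at representatives. -/
theorem fix_upper (hL3 : ∀ x, L (L (L x)) = x) {ι : Type} [Fintype ι] (vs : ι → Fin k → ZMod 3) (c : ι → ZMod 3)
    (R : Finset (Fin k → ZMod 3))
    (hR : ∀ u, (∀ i, dot u (vs i) = c i) → u ∈ R ∨ f' u ∈ R ∨ f' (f' u) ∈ R) :
    Module.finrank K ↥(W.cond vs c ⊓ LinearMap.eqLocus L LinearMap.id) ≤ ∑ u ∈ R, W.wn u := by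
  classical
  refine (LinearMap.finrank_le_finrank_of_injective
    (f := (W.split R).comp (W.cond vs c ⊓ LinearMap.eqLocus L LinearMap.id).subtype) ?_).trans ?_
  · rw [← LinearMap.ker_eq_bot, Submodule.eq_bot_iff]
    rintro ⟨x, hxc, hxL⟩ hx
    have hz : ∀ u ∈ R, W.proj u x = 0 := fun u hu =>
      congrArg Subtype.val (congrFun (LinearMap.mem_ker.1 hx) ⟨u, hu⟩)
    have hLx : L x = x := hxL
    have hinj : Function.Injective L := fun a b h => by rw [← hL3 a, h, hL3 b]
    have hstep : ∀ u, W.proj (f' u) x = 0 → W.proj u x = 0 := fun u h => hinj (by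
      rw [W.L_proj hf hL hf', hLx, h, map_zero])
    refine Subtype.ext ?_
    show x = 0
    rw [← W.sum_proj_cond hxc]
    refine Finset.sum_eq_zero fun u hu => ?_
    rcases hR u (Finset.mem_filter.1 hu).2 with h | h | h
    · exact hz _ h
    · exact hstep _ (hz _ h)
    · exact hstep _ (hstep _ (hz _ h))
  · rw [Module.finrank_pi_fintype, ← Finset.sum_coe_sort R]
    exact le_of_eq rfl

include hf hL hf' in
/-- Orbit sums are fixed. -/
theorem fix_lower (hL3 : ∀ x, L (L (L x)) = x) {ι : Type} [Fintype ι] (vs : ι → Fin k → ZMod 3) (c : ι → ZMod 3)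
    (R : Finset (Fin k → ZMod 3))
    (hRc : ∀ r ∈ R, ∀ i, dot r (vs i) = c i ∧ dot (f' r) (vs i) = c i ∧ dot (f' (f' r)) (vs i) = c i)
    (hR : ∀ r ∈ R, ∀ r' ∈ R, f' r' ≠ r' → f' r' ≠ r ∧ f' (f' r') ≠ r)
    (htriv : ∀ r ∈ R, f' r = r → ∀ x ∈ W.ws r, L x = x) :
    ∑ u ∈ R, W.wn u ≤ Module.finrank K ↥(W.cond vs c ⊓ LinearMap.eqLocus L LinearMap.id) := by
  classical
  let b : R → Module.End K M := fun r => if f' r.1 = r.1 then 1 else 1 + L + L * L
  let g : (∀ u : R, W.ws u.1) →ₗ[K] M := ∑ u : R, (b u) ∘ₗ (W.ws u.1).subtype ∘ₗ LinearMap.proj u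
  have hg : ∀ a, g a = ∑ u : R, b u (a u : M) := fun a => by simp [g, LinearMap.sum_apply]
  have hws : ∀ {u x}, x ∈ W.ws u → L x ∈ W.ws (f' u) := fun hx => W.map_ws hf.2 hL (hf' _) hx
  have hb : ∀ (u : R) (x : M), x ∈ W.ws u.1 → b u x ∈ W.cond vs c ⊓ LinearMap.eqLocus L LinearMap.id := by
    intro u x hx
    by_cases h : f' u.1 = u.1
    · simp only [b, if_pos h, Module.End.one_apply]
      exact ⟨W.ws_le_cond (fun i => (hRc _ u.2 i).1) hx, htriv _ u.2 h x hx⟩
    · simp only [b, if_neg h, LinearMap.add_apply, Module.End.one_apply, Module.End.mul_apply]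
      refine ⟨add_mem (add_mem (W.ws_le_cond (fun i => (hRc _ u.2 i).1) hx)
        (W.ws_le_cond (fun i => (hRc _ u.2 i).2.1) (hws hx)))
        (W.ws_le_cond (fun i => (hRc _ u.2 i).2.2) (hws (hws hx))), ?_⟩
      show L (x + L x + L (L x)) = x + L x + L (L x)
      rw [map_add, map_add, hL3]
      abel
  have hmem : ∀ a, g a ∈ W.cond vs c ⊓ LinearMap.eqLocus L LinearMap.id := fun a => by
    rw [hg]
    exact sum_mem fun u _ => hb u _ (a u).2
  refine le_trans (le_of_eq ?_) (LinearMap.finrank_le_finrank_of_injective (f := g.codRestrict _ hmem) ?_)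
  · rw [Module.finrank_pi_fintype, ← Finset.sum_coe_sort R]
    rfl
  rw [← LinearMap.ker_eq_bot, Submodule.eq_bot_iff]
  intro a ha
  have h0 : g a = 0 := congrArg Subtype.val (LinearMap.mem_ker.1 ha)
  funext r
  refine Subtype.ext ?_
  show (a r : M) = 0
  have hp : ∀ u : R, W.proj r.1 (b u (a u : M)) = if u = r then (a u : M) else 0 := by
    intro u
    by_cases h : f' u.1 = u.1
    · simp only [b, if_pos h, Module.End.one_apply, W.proj_of_mem (a u).2]
      exact if_congr ⟨fun e => Subtype.ext e.symm, fun e => e ▸ rfl⟩ rfl rfl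
    · simp only [b, if_neg h, LinearMap.add_apply, Module.End.one_apply, Module.End.mul_apply, map_add,
        W.proj_of_mem (a u).2, W.proj_of_mem (hws (a u).2), W.proj_of_mem (hws (hws (a u).2))]
      rw [if_neg (show ¬ r.1 = f' u.1 from fun e => (hR _ r.2 _ u.2 h).1 e.symm),
        if_neg (show ¬ r.1 = f' (f' u.1) from fun e => (hR _ r.2 _ u.2 h).2 e.symm), add_zero, add_zero]
      exact if_congr ⟨fun e => Subtype.ext e.symm, fun e => e ▸ rfl⟩ rfl rfl
  have := congrArg (W.proj r.1) h0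
  rw [hg, map_sum, Finset.sum_congr rfl fun u _ => hp u, Finset.sum_ite_eq' Finset.univ r, map_zero,
    if_pos (Finset.mem_univ r)] at this
  exact this

end Perm

end Wt

end Cfsg.Agent.AltE8
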