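import Cfsg.Agent.Lib.AltE8.Perm
import Cfsg.Agent.Lib.AltE8.Weights

/-!
# The characters of six blocks of three points, by their supports
-/

set_option autoImplicit false
set_option maxRecDepth 100000
set_option maxHeartbeats 1000000

namespace Cfsg.Agent.AltE8

open Equiv Cfsg.Agent.AltE7

/-- Vectors of length six over the field of three elements. -/
abbrev V6 := Fin 6 → ZMod 3

/-- The size of the support. -/
def lev (u : V6) : Fin 7 :=
  ⟨(Finset.univ.filter fun i => u i ≠ 0).card, Nat.lt_succ_of_le ((Finset.card_filter_le _ _).trans (by simp))⟩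

/-- The standard vector of a given support. -/
def can (l : Fin 7) : V6 := fun i => if i.val < l.val then 1 else 0

/-- A measure minimal on the standard vectors. -/
def meas (u : V6) : ℕ := ∑ i, if u i = 0 then 0 else 8 * i.val + (u i).val

theorem sign_gen : ∀ a b k : Fin 6, a ≠ b → Perm.sign (mo (swap a b) (fl [k])) = 1 := by
  decide +kernel

theorem level_step : ∀ u : V6, u = can (lev u) ∨ ∃ a b k : Fin 6, a ≠ b ∧
    lev (mv (swap a b) (fl [k]) u) = lev u ∧ meas (mv (swap a b) (fl [k]) u) < meas u := by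
  decide +kernel

theorem mv_dot {k : ℕ} (σ : Perm (Fin k)) (c : Fin k → (ZMod 3)ˣ) (u v : Fin k → ZMod 3) :
    dot (mv σ c u) (mv σ c v) = dot u v := by
  have hc : ∀ e : (ZMod 3)ˣ, (e : ZMod 3) * e = 1 := by decide
  refine Fintype.sum_equiv σ.symm _ _ fun j => ?_
  show (c (σ.symm j) : ZMod 3) * u (σ.symm j) * ((c (σ.symm j) : ZMod 3) * v (σ.symm j)) = u (σ.symm j) * v (σ.symm j)
  linear_combination u (σ.symm j) * v (σ.symm j) * hc (c (σ.symm j))

theorem mv_bijective {k : ℕ} (σ : Perm (Fin k)) (c : Fin k → (ZMod 3)ˣ) : Function.Bijective (mv σ c) :=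
  Finite.injective_iff_bijective.1 fun v w h => funext fun i => by
    have e := congrFun h (σ i)
    simp only [mv, Equiv.symm_apply_apply] at e
    exact (c i).isUnit.mul_left_cancel e

/-- A head followed by a tail. -/
def mk (h S : Fin 3 → ZMod 3) : V6 := ![h 0, h 1, h 2, S 0, S 1, S 2]

/-- Representatives of the free orbits of the cyclic shift on heads. -/
def freeHeads : List (Fin 3 → ZMod 3) :=
  [![1, 0, 0], ![2, 0, 0], ![1, 1, 0], ![2, 2, 0], ![1, 2, 0], ![2, 1, 0], ![1, 1, 2], ![2, 2, 1]]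

/-- The fixed heads. -/
def fixHeads : List (Fin 3 → ZMod 3) := [![0, 0, 0], ![1, 1, 1], ![2, 2, 2]]

/-- The two tails. -/
def tailA : Fin 3 → ZMod 3 := ![1, 1, 1]

/-- The second tail. -/
def tailB : Fin 3 → ZMod 3 := ![1, 1, 0]

/-- The last three unit vectors. -/
def tvs : Fin 3 → V6 := ![Pi.single 3 1, Pi.single 4 1, Pi.single 5 1]

/-- The diagonal and the last three unit vectors. -/
def yvs : Fin 4 → V6 := ![![1, 1, 1, 0, 0, 0], Pi.single 3 1, Pi.single 4 1, Pi.single 5 1]

/-- The values for the four vectors. -/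
def yval (S : Fin 3 → ZMod 3) : Fin 4 → ZMod 3 := ![0, S 0, S 1, S 2]

/-- Upper representatives. -/
def repsUp (S : Fin 3 → ZMod 3) : Finset V6 := ((freeHeads ++ fixHeads).map (mk · S)).toFinset

/-- Lower representatives for the first tail. -/
def repsA : Finset V6 := ((freeHeads ++ [![1, 1, 1], ![2, 2, 2]]).map (mk · tailA)).toFinset

/-- Lower representatives for the second tail. -/
def repsB : Finset V6 := (freeHeads.map (mk · tailB)).toFinset

/-- The cyclic shift of heads. -/
def shift : V6 → V6 := mv c1 (fl [])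

theorem cover_reps : ∀ S, S = tailA ∨ S = tailB → ∀ u : V6, (∀ i, dot u (tvs i) = S i) →
    u ∈ repsUp S ∨ shift u ∈ repsUp S ∨ shift (shift u) ∈ repsUp S := by
  have h : ∀ u : V6, ((∀ i, dot u (tvs i) = tailA i) →
      u ∈ repsUp tailA ∨ shift u ∈ repsUp tailA ∨ shift (shift u) ∈ repsUp tailA) ∧
    ((∀ i, dot u (tvs i) = tailB i) →
      u ∈ repsUp tailB ∨ shift u ∈ repsUp tailB ∨ shift (shift u) ∈ repsUp tailB) := by
    decide +kernel
  rintro S (rfl | rfl) u
  exacts [(h u).1, (h u).2]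

theorem repsA_ok : (∀ r ∈ repsA, ∀ i, dot r (tvs i) = tailA i ∧ dot (shift r) (tvs i) = tailA i ∧
      dot (shift (shift r)) (tvs i) = tailA i) ∧
    (∀ r ∈ repsA, ∀ r' ∈ repsA, shift r' ≠ r' → shift r' ≠ r ∧ shift (shift r') ≠ r) ∧
    (∀ r ∈ repsA, shift r = r → r = can 6 ∨ r = mv (swap 3 4) (fl [0, 1, 2]) (can 6)) := by
  refine ⟨?_, ?_, ?_⟩ <;> decide +kernel

theorem repsB_ok : (∀ r ∈ repsB, ∀ i, dot r (tvs i) = tailB i ∧ dot (shift r) (tvs i) = tailB i ∧
      dot (shift (shift r)) (tvs i) = tailB i) ∧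
    (∀ r ∈ repsB, ∀ r' ∈ repsB, shift r' ≠ r' → shift r' ≠ r ∧ shift (shift r') ≠ r) ∧
    (∀ r ∈ repsB, shift r ≠ r) := by
  refine ⟨?_, ?_, ?_⟩ <;> decide +kernel

theorem can_six : mv c4 (fl []) (can 6) = can 6 ∧ mv c1 (fl []) (can 6) = can 6 ∧ mv c2 (fl []) (can 6) = can 6 := by
  decide +kernel

/-- The vectors of a given set, counted by support. -/
def census (J : Finset V6) : List ℕ := (List.finRange 7).map fun l => (J.filter fun u => lev u = l).card

theorem sum_census (J : Finset V6) (w : Fin 7 → ℕ) :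
    ∑ u ∈ J, w (lev u) = (census J).getD 0 0 * w 0 + (census J).getD 1 0 * w 1 + (census J).getD 2 0 * w 2 +
      (census J).getD 3 0 * w 3 + (census J).getD 4 0 * w 4 + (census J).getD 5 0 * w 5 + (census J).getD 6 0 * w 6 := by
  rw [← Finset.sum_fiberwise_of_maps_to' (g := lev) (fun u _ => Finset.mem_univ _) w, Fin.sum_univ_seven]
  simp only [Finset.sum_const, smul_eq_mul]
  rfl

theorem census_all : census (Finset.univ.filter fun u : V6 =>
    ∀ i : Fin 0, dot u ((fun i => i.elim0) i) = (fun i : Fin 0 => i.elim0) i) = [1, 12, 60, 160, 240, 192, 64] := by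
  decide +kernel

theorem census_fix : census (Finset.univ.filter fun u : V6 =>
    ∀ i : Fin 1, dot u ((fun _ => (Pi.single 0 1 : V6)) i) = (fun _ => 0) i) = [1, 10, 40, 80, 80, 32, 0] := by
  decide +kernel

theorem census_y : census (Finset.univ.filter fun u : V6 => ∀ i, dot u (yvs i) = yval tailA i) = [0, 0, 0, 1, 0, 6, 2] ∧
    census (Finset.univ.filter fun u : V6 => ∀ i, dot u (yvs i) = yval tailB i) = [0, 0, 1, 0, 6, 2, 0] := by
  decide +kernel

theorem census_reps : census (repsUp tailA) = [0, 0, 0, 1, 2, 4, 4] ∧ census (repsUp tailB) = [0, 0, 1, 2, 4, 4, 0] ∧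
    census repsA = [0, 0, 0, 0, 2, 4, 4] ∧ census repsB = [0, 0, 0, 2, 4, 2, 0] := by
  decide +kernel

end Cfsg.Agent.AltE8
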