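import Cfsg.Agent.Lib.AltE7.Section
import Cfsg.Agent.Lib.ToralSection.Chev
import Cfsg.Agent.Lib.ChevOrder.Final
import Cfsg.Agent.Lib.Chev.All

/-!
# The torus and the monomial subgroup of the Chevalley group of type E8

* `torus_card`, `torus_index_eq` : the order and the index of the torus;
* `index_not_dvd` : primes dividing no degree;
* `index_three`   : the index of the torus is not divisible by `3 ^ 6`;
* `monomial_index` : the monomial subgroup has index prime to three;
* `frattini_bound` : subgroups of order a power of three have Frattini quotient of rank at most thirteen.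
-/

set_option autoImplicit false
set_option maxRecDepth 100000
set_option linter.style.haveILetI false

namespace Cfsg.Agent.AltE8

open Cfsg.Lie Cfsg.Lie.ChevalleyDatum Cfsg.Agent.Chev Cfsg.Agent.ChevBN Cfsg.Agent.ChevLang
  Cfsg.Agent.ToralSection

theorem hgood : Good chevE8 := Chev.good_of_mem (by simp)

/-- The group. -/
abbrev G8 (K : Type) [Field K] := ↥(chevE8.group K)

/-- The torus. -/
noncomputable def tau (K : Type) [Field K] : (Fin 8 → Kˣ) →* G8 K := torus hgood rootsE8 K

/-- The degrees. -/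
def degs : List ℕ := [2, 8, 12, 14, 18, 20, 24, 30]

/-- The product of the cyclotomic quotients. -/
def poinc (q : ℕ) : ℕ := (degs.map fun e => ∑ i ∈ Finset.range e, q ^ i).prod

variable {K : Type} [Field K]

theorem tau_comm : ∀ a ∈ (tau K).range, ∀ b ∈ (tau K).range, a * b = b * a := by
  rintro _ ⟨a, rfl⟩ _ ⟨b, rfl⟩
  rw [← map_mul, ← map_mul, mul_comm]

theorem tau_eq_one {c : Fin 8 → Kˣ} (h : tau K c = 1) : c = 1 := funext fun i => by
  have h2 := exists_chi_one hgood rootsE8 (congrArg Subtype.val h : ChevOrder.torusHom chevE8 K c = 1) i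
  rwa [zpow_one] at h2

theorem tau_injective : Function.Injective (tau K) :=
  (injective_iff_map_eq_one _).2 fun _ h => tau_eq_one h

theorem poinc_mul {q : ℕ} (hq : 1 ≤ q) :
    (q ^ 2 - 1) * (q ^ 8 - 1) * (q ^ 12 - 1) * (q ^ 14 - 1) * (q ^ 18 - 1) * (q ^ 20 - 1) * (q ^ 24 - 1) *
      (q ^ 30 - 1) = (q - 1) ^ 8 * poinc q := by
  have hgeom : ∀ e, q ^ e - 1 = (q - 1) * ∑ i ∈ Finset.range e, q ^ i := fun e => by
    have h := geom_sum_mul_add (q - 1) e
    rw [Nat.sub_add_cancel hq] at h
    rw [← h, Nat.add_sub_cancel, mul_comm]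
  simp only [hgeom, poinc, degs, List.map_cons, List.map_nil, List.prod_cons, List.prod_nil]
  ring

variable [Fintype K]

theorem torus_card : Nat.card (tau K).range = (Fintype.card K - 1) ^ 8 := by
  rw [← Nat.card_congr (MonoidHom.ofInjective tau_injective).toEquiv, Nat.card_fun, Nat.card_units,
    Nat.card_fin, Nat.card_eq_fintype_card]

theorem torus_index_eq : (tau K).range.index = Fintype.card K ^ 120 * poinc (Fintype.card K) := by
  set q := Fintype.card K with hq
  have hq1 : 2 ≤ q := hq ▸ Fintype.one_lt_card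
  have hG := (tau K).range.card_mul_index
  rw [torus_card, ChevOrder.card_E8 (F := K) (q := q) hq.symm hgood, ← hq] at hG
  have h8 : q ^ 120 * (q ^ 2 - 1) * (q ^ 8 - 1) * (q ^ 12 - 1) * (q ^ 14 - 1) * (q ^ 18 - 1) * (q ^ 20 - 1) *
      (q ^ 24 - 1) * (q ^ 30 - 1) = (q - 1) ^ 8 * (q ^ 120 * poinc q) := by
    rw [mul_left_comm, ← poinc_mul (by omega : 1 ≤ q)]
    ring
  exact mul_left_cancel₀ (pow_ne_zero 8 (by omega : q - 1 ≠ 0)) (hG.trans h8)

/-- Primes dividing no degree do not divide the index. -/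
theorem index_not_dvd {s : ℕ} (hs : s.Prime) (hdvd : s ∣ Fintype.card K - 1) (he : ∀ e ∈ degs, ¬ s ∣ e) :
    ¬ s ∣ (tau K).range.index := by
  haveI := Fact.mk hs
  set q := Fintype.card K with hq
  have hq0 : (q : ZMod s) = 1 := by
    have := (ZMod.natCast_eq_zero_iff (q - 1) s).2 hdvd
    rwa [Nat.cast_sub (hq ▸ Fintype.card_pos), Nat.cast_one, sub_eq_zero] at this
  rw [torus_index_eq, ← hq, ← ZMod.natCast_eq_zero_iff]
  simp only [poinc, Nat.cast_mul, Nat.cast_pow, hq0, one_pow, one_mul, Nat.cast_list_prod, List.map_map]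
  rw [List.prod_eq_zero_iff]
  simp only [List.mem_map, Function.comp_apply, Nat.cast_sum, Nat.cast_pow, hq0, one_pow, Finset.sum_const,
    Finset.card_range, nsmul_eq_mul, mul_one, ZMod.natCast_eq_zero_iff]
  rintro ⟨e, hm, h⟩
  exact he e hm h

theorem check_three_six : ∀ r < 243, (3 * r + 1) ^ 120 * poinc (3 * r + 1) % 729 ≠ 0 := by
  decide +kernel

/-- The index of the torus has three-part at most `3 ^ 5`. -/
theorem index_three (hdvd : 3 ∣ Fintype.card K - 1) : ¬ 3 ^ 6 ∣ (tau K).range.index := by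
  set q := Fintype.card K with hq
  have hq1 : 2 ≤ q := hq ▸ Fintype.one_lt_card
  obtain ⟨k, hk⟩ := hdvd
  have hmod : (q : ZMod 729) = ((3 * (k % 243) + 1 : ℕ) : ZMod 729) := by
    rw [ZMod.natCast_eq_natCast_iff']
    omega
  intro h
  refine check_three_six (k % 243) (Nat.mod_lt _ (by norm_num)) ?_
  rw [torus_index_eq, ← hq, show (3 ^ 6 : ℕ) = 729 by norm_num, ← ZMod.natCast_eq_zero_iff] at h
  rw [← Nat.dvd_iff_mod_eq_zero, ← ZMod.natCast_eq_zero_iff]
  generalize hr : 3 * (k % 243) + 1 = r at hmod ⊢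
  simp only [poinc, degs, List.map_cons, List.map_nil, List.prod_cons, List.prod_nil, mul_one, Nat.cast_mul,
    Nat.cast_pow, Nat.cast_sum, ← hmod] at h ⊢
  exact h

theorem poinc_one : poinc 1 = 696729600 := by decide +kernel

/-- The monomial subgroup, inside the group. -/
noncomputable def mon (K : Type) [Field K] : Subgroup (G8 K) :=
  (chevE8.monomialSubgroup K).subgroupOf (chevE8.group K)

omit [Fintype K] in
theorem monomial_le_group : chevE8.monomialSubgroup K ≤ chevE8.group K := by
  rw [← chev_N hgood rootsE8, ← chev_G hgood rootsE8]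
  exact RGD.RootData.N_le_G _

theorem card_monomial_eq {D : ChevalleyDatum} {Md : List (List ℤ)} {d : ℤ} (hD : Good D) (hR : Roots D Md d)
    (F : Type) [Field F] (M : CoxeterMatrix (Fin D.rank)) (hM : ChevOrder.CartanOK D M = true) :
    Nat.card ↥(D.monomialSubgroup F) = Nat.card ↥(D.diagonalSubgroup F) * Nat.card M.Group := by
  obtain ⟨-, φ, hsurj, hker, -⟩ := ChevOrder.exists_weylHom (F := F) hD hR M hM
  have hc := φ.ker.card_mul_index
  rw [Subgroup.index_ker, MonoidHom.range_eq_top.2 hsurj, Subgroup.card_top, hker] at hc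
  have hd : D.diagonalSubgroup F ≤ D.monomialSubgroup F := by
    rw [← chev_N hD hR]
    exact (chevRGD hD hR F).H_le_N
  rw [← hc, Nat.card_congr (Subgroup.subgroupOfEquivOfLe hd).toEquiv]

theorem card_monomial : Nat.card (mon K) = (Fintype.card K - 1) ^ 8 * 696729600 := by
  classical
  obtain ⟨inst, hex, -⟩ := ChevOrder.card_order (F := K) hgood rootsE8 ChevOrder.simpleOK_E8 CoxeterMatrix.E₈
    (by decide +kernel) ChevOrder.torus_E8
  letI : Fintype (CoxeterMatrix.E₈).Group := inst
  have hW : Fintype.card (CoxeterMatrix.E₈).Group = 696729600 := by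
    obtain ⟨m, hm⟩ : ∃ m, m = Fintype.card (CoxeterMatrix.E₈).Group := ⟨_, rfl⟩
    obtain ⟨M, hM⟩ : ∃ M, m + 696729600 < M := ⟨_, Nat.lt_succ_self _⟩
    have hP := Coxeter.poincare_e8 hex (M + 1) (by omega)
    rw [poinc_mul (by omega : 1 ≤ M + 1)] at hP
    have h := congrArg (Nat.cast (R := ZMod M)) (mul_left_cancel₀ (pow_ne_zero 8 (by omega)) hP)
    simp only [poinc, degs, List.map_cons, List.map_nil, List.prod_cons, List.prod_nil, Nat.cast_sum, Nat.cast_pow,
      Nat.cast_mul, Nat.cast_add, ZMod.natCast_self, zero_add, Nat.cast_one, one_pow, Finset.sum_const,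
      Finset.card_univ, Finset.card_range, nsmul_eq_mul, mul_one, ← hm] at h
    have h' : ((m : ℕ) : ZMod M) = ((2 * (8 * (12 * (14 * (18 * (20 * (24 * 30)))))) : ℕ) : ZMod M) := by
      simp only [Nat.cast_mul]
      exact h
    rw [ZMod.natCast_eq_natCast_iff', Nat.mod_eq_of_lt (by omega), Nat.mod_eq_of_lt (by omega)] at h'
    exact hm ▸ h'
  have hT : (chevE8.diagonalSubgroup K) = (tau K).range.map (chevE8.group K).subtype := by
    rw [MonoidHom.map_range]
    exact (ChevOrder.torusHom_range (F := K) hgood).symm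
  have hc := card_monomial_eq hgood rootsE8 K CoxeterMatrix.E₈ (by decide +kernel)
  have hW' : Nat.card (CoxeterMatrix.E₈).Group = 696729600 := Nat.card_eq_fintype_card.trans hW
  rw [hT, Subgroup.card_map_of_injective (chevE8.group K).subtype_injective, torus_card] at hc
  rw [show Nat.card (mon K) = Nat.card ↥(chevE8.monomialSubgroup K) from
    Nat.card_congr (Subgroup.subgroupOfEquivOfLe monomial_le_group).toEquiv, hc]
  exact congrArg _ hW'

/-- The monomial subgroup has index prime to three. -/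
theorem monomial_index (hdvd : 3 ∣ Fintype.card K - 1) : ¬ 3 ∣ (mon K).index := by
  have hq1 : 2 ≤ Fintype.card K := Fintype.one_lt_card
  have h1 := (mon K).card_mul_index
  rw [card_monomial, ← (tau K).range.card_mul_index, torus_card, mul_assoc] at h1
  have h2 := mul_left_cancel₀ (pow_ne_zero 8 (by omega : Fintype.card K - 1 ≠ 0)) h1
  intro h
  refine index_three hdvd (h2 ▸ ?_)
  rw [show (3 : ℕ) ^ 6 = 3 ^ 5 * 3 by norm_num]
  exact Nat.mul_dvd_mul (by norm_num) h

theorem torus_torsion : Nat.card {t : G8 K // t ∈ (tau K).range ∧ t ^ 3 = 1} ≤ 3 ^ 8 := by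
  classical
  let f : {t : G8 K // t ∈ (tau K).range ∧ t ^ 3 = 1} → (Fin 8 → {u : Kˣ // u ^ 3 = 1}) := fun t i =>
    ⟨t.2.1.choose i, congrFun (tau_injective (by rw [map_pow, t.2.1.choose_spec, t.2.2, map_one]) :
      t.2.1.choose ^ 3 = 1) i⟩
  have hinj : Function.Injective f := fun a b h => Subtype.ext (by
    rw [← a.2.1.choose_spec, ← b.2.1.choose_spec]
    exact congrArg _ (funext fun i => congrArg Subtype.val (congrFun h i)))
  refine (Nat.card_le_card_of_injective f hinj).trans ?_
  rw [Nat.card_fun, Nat.card_fin]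
  refine Nat.pow_le_pow_left ?_ 8
  have h := card_rootsOfUnity K 3
  refine le_trans (le_of_eq ?_) h
  exact Nat.card_congr (Equiv.subtypeEquivRight fun u => (mem_rootsOfUnity 3 u).symm)

section Frattini

variable {s : ℕ} [hs : Fact s.Prime] {G : Type*} [Group G] [Finite G] {T : Subgroup G}

/-- Subgroups of prime power order meet a conjugate of `T` in index at most the `s`-part of the index. -/
theorem exists_conj_relIndex {e : ℕ} (hidx : ¬ s ^ (e + 1) ∣ T.index) {U : Subgroup G} (hU : IsPGroup s U) :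
    ∃ c : G, T.relIndex (U.map (MulAut.conj c).toMonoidHom) ≤ s ^ e := by
  obtain ⟨Pt⟩ : Nonempty (Sylow s T) := inferInstance
  set P₀ := (Pt : Subgroup T).map T.subtype with hP₀
  obtain ⟨S₀, hS₀⟩ := (Pt.isPGroup'.map T.subtype : IsPGroup s P₀).exists_le_sylow
  obtain ⟨S, hS⟩ := hU.exists_le_sylow
  obtain ⟨c, hc⟩ := MulAction.exists_smul_eq G S S₀
  refine ⟨c, ?_⟩
  have hle : U.map (MulAut.conj c).toMonoidHom ≤ S₀ := by
    rw [← hc]
    exact Subgroup.map_mono hS
  have h1 : (Nat.card G).factorization s ≤ (Nat.card T).factorization s + e := by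
    rw [← T.card_mul_index, Nat.factorization_mul Nat.card_pos.ne' Subgroup.index_ne_zero_of_finite,
      Finsupp.add_apply]
    refine Nat.add_le_add_left ?_ _
    by_contra h
    exact hidx ((hs.out.pow_dvd_iff_le_factorization Subgroup.index_ne_zero_of_finite).2 (by omega))
  have h2 : Nat.card P₀ * P₀.relIndex S₀ = Nat.card (S₀ : Subgroup G) := by
    have e' := (P₀.subgroupOf S₀).card_mul_index
    rwa [Nat.card_congr (Subgroup.subgroupOfEquivOfLe hS₀).toEquiv] at e'
  rw [Subgroup.card_map_of_injective T.subtype_injective, Sylow.card_eq_multiplicity,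
    Sylow.card_eq_multiplicity] at h2
  have h3 : P₀.relIndex S₀ ≤ s ^ e := by
    refine Nat.le_of_mul_le_mul_left ?_ (pow_pos hs.out.pos ((Nat.card T).factorization s))
    rw [h2, ← pow_add]
    exact Nat.pow_le_pow_right hs.out.pos h1
  have hP₀T : P₀ ≤ T := Subgroup.map_subtype_le _
  exact le_trans (Subgroup.relIndex_le_of_le_left hP₀T Subgroup.index_ne_zero_of_finite)
    (le_trans (Subgroup.relIndex_le_of_le_right hle Subgroup.index_ne_zero_of_finite) h3)

/-- The Frattini quotient of a subgroup of prime power order is small. -/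
theorem frattini_bound (hab : ∀ a ∈ T, ∀ b ∈ T, a * b = b * a) {e : ℕ} (hidx : ¬ s ^ (e + 1) ∣ T.index) {n : ℕ}
    (hker : Nat.card {t : G // t ∈ T ∧ t ^ s = 1} ≤ s ^ n) {H : Type*} [Group H] [Finite H]
    (ι : H →* G) (hι : Function.Injective ι) (R : Subgroup H) (hR : IsPGroup s R) :
    ∃ j ≤ n + e, (frattini R).index = s ^ j := by
  classical
  obtain ⟨c, hc⟩ := exists_conj_relIndex hidx (hR.map ι)
  let f : R →* G := ((MulAut.conj c).toMonoidHom.comp ι).comp R.subtype
  have hf : Function.Injective f := (MulAut.conj c).injective.comp (hι.comp R.subtype_injective)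
  set A0 := T.comap f with hA0
  have hA0i : A0.index ≤ s ^ e := by
    have e' : f.range = (R.map ι).map (MulAut.conj c).toMonoidHom := by
      rw [Subgroup.map_map, MonoidHom.range_comp, Subgroup.range_subtype]
    rw [hA0, Subgroup.index_comap, e']
    exact hc
  letI : CommGroup A0 :=
    { (inferInstance : Group A0) with
      mul_comm := fun a b => Subtype.ext (hf (by
        rw [Subgroup.coe_mul, Subgroup.coe_mul, map_mul, map_mul]
        exact hab _ a.2 _ b.2)) }
  let pw : A0 →* A0 :=
    { toFun := fun a => a ^ s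
      map_one' := one_pow _
      map_mul' := fun a b => mul_pow a b s }
  set B := pw.range.map A0.subtype with hB
  have hBΦ : B ≤ frattini R := by
    rintro _ ⟨_, ⟨a, rfl⟩, rfl⟩
    exact Cores.pow_mem_frattini hR (a : R)
  have hkerle : Nat.card pw.ker ≤ s ^ n := by
    refine le_trans (Nat.card_le_card_of_injective (fun a : pw.ker => (⟨f ((a : A0) : R), (a : A0).2, ?_⟩ :
      {t : G // t ∈ T ∧ t ^ s = 1})) ?_) hker
    · have : ((a : A0) : R) ^ s = 1 := congrArg Subtype.val (MonoidHom.mem_ker.1 a.2)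
      rw [← map_pow, this, map_one]
    · intro a b e'
      exact Subtype.ext (Subtype.ext (hf (congrArg Subtype.val e')))
  have hcard : Nat.card R ≤ Nat.card B * s ^ (n + e) := by
    rw [← A0.card_mul_index, ← pw.ker.card_mul_index, Subgroup.index_ker, hB,
      Subgroup.card_map_of_injective A0.subtype_injective, pow_add, mul_comm (Nat.card pw.ker), mul_assoc]
    exact Nat.mul_le_mul_left _ (Nat.mul_le_mul hkerle hA0i)
  have hΦ : (frattini R).index ≤ s ^ (n + e) := by
    refine Nat.le_of_mul_le_mul_left ?_ (Nat.card_pos (α := frattini R))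
    rw [Subgroup.card_mul_index]
    exact hcard.trans (Nat.mul_le_mul_right _ (Subgroup.card_le_of_le hBΦ))
  obtain ⟨d, hd⟩ := IsPGroup.iff_card.1 hR
  obtain ⟨j, -, hj⟩ := (Nat.dvd_prime_pow hs.out).1 (hd ▸ (frattini R).index_dvd_card)
  refine ⟨j, ?_, hj⟩
  rw [hj] at hΦ
  exact (Nat.pow_le_pow_iff_right hs.out.one_lt).1 hΦ

end Frattini

end Cfsg.Agent.AltE8
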