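import Cfsg.Agent.Lib.AltE8.Alcove
import Cfsg.Agent.Lib.AltE8.Torus
import Cfsg.Agent.Lib.ChevOvergroup.Action

/-!
# Fixed vectors of elements of order three of the Chevalley group of type E8

* `fix_bound` : an element of order three fixes a subspace of dimension at most 150.
-/

set_option autoImplicit false
set_option maxRecDepth 100000
set_option linter.style.haveILetI false

namespace Cfsg.Agent.AltE8

open Cfsg.Lie Cfsg.Lie.ChevalleyDatum Cfsg.Agent.Chev Cfsg.Agent.ChevBN Cfsg.Agent.ChevSt Cfsg.Agent.ChevLang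
  Cfsg.Agent.ToralSection
open scoped Matrix

variable {K : Type} [Field K]

/-- The adjoint representation. -/
noncomputable def rep (K : Type) [Field K] : G8 K →* Module.End K (chevE8.Idx → K) :=
  (Matrix.toLinAlgEquiv' : Matrix chevE8.Idx chevE8.Idx K ≃ₐ[K] _).toMonoidHom.comp
    ((Units.coeHom _).comp (chevE8.group K).subtype)

theorem rep_apply (g : G8 K) (v : chevE8.Idx → K) :
    rep K g v = ((g : GL chevE8.Idx K) : Matrix chevE8.Idx chevE8.Idx K) *ᵥ v :=
  Matrix.toLinAlgEquiv'_apply _ _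

/-- The fixed space. -/
def fixS {M : Type} [AddCommGroup M] [Module K M] (L : Module.End K M) : Submodule K M :=
  LinearMap.eqLocus L LinearMap.id

theorem mem_fixS {M : Type} [AddCommGroup M] [Module K M] {L : Module.End K M} {v : M} :
    v ∈ fixS L ↔ L v = v := Iff.rfl

/-- A fixed space determined by few coordinates is small. -/
theorem fix_le {ι : Type} [Fintype ι] (L : Module.End K (ι → K)) (S : Finset ι)
    (h : ∀ v, L v = v → (∀ a ∈ S, v a = 0) → v = 0) : Module.finrank K (fixS L) ≤ S.card := by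
  let f : ↥(fixS L) →ₗ[K] (S → K) :=
    { toFun := fun v a => v.1 a.1
      map_add' := fun _ _ => rfl
      map_smul' := fun _ _ => rfl }
  have hf : Function.Injective f := by
    rw [← LinearMap.ker_eq_bot, Submodule.eq_bot_iff]
    exact fun v hv => Subtype.ext (h v.1 v.2 fun a ha => congrFun (LinearMap.mem_ker.1 hv) ⟨a, ha⟩)
  refine (LinearMap.finrank_le_finrank_of_injective hf).trans (le_of_eq ?_)
  rw [Module.finrank_fintype_fun_eq_card, Fintype.card_coe]

theorem fix_conj_le {M : Type} [AddCommGroup M] [Module K M] [FiniteDimensional K M] {G : Type} [Group G]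
    (ρ : G →* Module.End K M) (c x : G) :
    Module.finrank K (fixS (ρ x)) ≤ Module.finrank K (fixS (ρ (c * x * c⁻¹))) := by
  let f : ↥(fixS (ρ x)) →ₗ[K] ↥(fixS (ρ (c * x * c⁻¹))) := (ρ c).restrict fun v hv => by
    rw [mem_fixS, ← Module.End.mul_apply, ← map_mul, inv_mul_cancel_right, map_mul, Module.End.mul_apply,
      mem_fixS.1 hv]
  refine LinearMap.finrank_le_finrank_of_injective (f := f) fun a b hab => Subtype.ext ?_
  have h : ρ c⁻¹ (ρ c a.1) = ρ c⁻¹ (ρ c b.1) := congrArg (ρ c⁻¹) (congrArg Subtype.val hab)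
  rwa [← Module.End.mul_apply, ← Module.End.mul_apply, ← map_mul, inv_mul_cancel, map_one, Module.End.one_apply,
    Module.End.one_apply] at h

theorem torus_fix [Fintype K] {ω : Kˣ} (hω : orderOf ω = 3) {c : Fin 8 → Kˣ} (hc : tau K c ^ 3 = 1)
    (hne : tau K c ≠ 1) : Module.finrank K (fixS (rep K (tau K c))) ≤ 134 := by
  classical
  haveI : Fact (Nat.Prime 3) := ⟨Nat.prime_three⟩
  have hc3 : ∀ i, c i ^ 3 = 1 := fun i => congrFun (tau_eq_one (by rw [map_pow, hc]) : c ^ 3 = 1) i
  have hprim : IsPrimitiveRoot (ω : K) 3 :=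
    IsPrimitiveRoot.coe_units_iff.2 (by have h := IsPrimitiveRoot.orderOf ω; rwa [hω] at h)
  have hex : ∀ i, ∃ j : ZMod 3, ω ^ j.val = c i := fun i => by
    obtain ⟨j, hj, e⟩ := hprim.eq_pow_of_pow_eq_one
      (show (c i : K) ^ 3 = 1 by rw [← Units.val_pow_eq_pow_val, hc3]; rfl)
    exact ⟨(j : ZMod 3), Units.ext (by rw [ZMod.val_natCast_of_lt hj, Units.val_pow_eq_pow_val, e])⟩
  choose v hv using hex
  have hz : ∀ (z : ℤ), ω ^ z = 1 → (z : ZMod 3) = 0 := fun z hz => by
    rw [ZMod.intCast_zmod_eq_zero_iff_dvd, ← hω]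
    exact orderOf_dvd_iff_zpow_eq_one.2 hz
  let lab : ℕ → ZMod 3 := fun r => ∑ j : Fin 8, (chevE8.cartan j.val r : ZMod 3) * v j
  have hchi : ∀ r, ChevOrder.chi (D := chevE8) c r = 1 → lab r = 0 := by
    intro r h
    have e : ChevOrder.chi (D := chevE8) c r = ω ^ (∑ j : Fin 8, chevE8.cartan j.val r * ((v j).val : ℤ)) := by
      rw [ChevOrder.zpow_sum']
      refine Finset.prod_congr rfl fun j _ => ?_
      rw [mul_comm, zpow_mul, zpow_natCast]
      exact congrArg (fun u : Kˣ => u ^ chevE8.cartan j.val r) (hv j).symm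
    have := hz _ (e ▸ h)
    simpa [lab, ZMod.natCast_zmod_val] using this
  have hv0 : v ≠ 0 := fun h => hne (by
    rw [show c = 1 from funext fun i => by rw [← hv i, h]; simp, map_one])
  have hcount : ((Finset.univ : Finset (Fin 240)).filter fun r => lab r.val = 0).card ≤ 126 := by
    refine le_trans (le_of_eq ?_) (zeros_three hv0)
    rw [labM, Multiset.count_map, ← Finset.range_val, ← Finset.filter_val]
    show _ = ((Finset.range 240).filter _).card
    rw [← Finset.card_image_of_injective _ Fin.val_injective]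
    congr 1
    ext r
    simp only [Finset.mem_image, Finset.mem_filter, Finset.mem_univ, true_and, Finset.mem_range]
    constructor
    · rintro ⟨a, ha, rfl⟩
      exact ⟨a.isLt, ha.symm⟩
    · rintro ⟨hr, h⟩
      exact ⟨⟨r, hr⟩, h.symm, rfl⟩
  refine (fix_le _ ((Finset.univ : Finset (Fin 8)).disjSum
    ((Finset.univ : Finset (Fin 240)).filter fun r => lab r.val = 0)) fun w hw h0 => ?_).trans ?_
  · funext a
    rcases a with i | r
    · exact h0 _ (Finset.inl_mem_disjSum.2 (Finset.mem_univ _))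
    · by_cases h : lab r.val = 0
      · exact h0 _ (Finset.inr_mem_disjSum.2 (Finset.mem_filter.2 ⟨Finset.mem_univ _, h⟩))
      · have e := congrFun ((rep_apply _ w).symm.trans hw) (Sum.inr r)
        rw [show ((tau K c : GL chevE8.Idx K) : Matrix chevE8.Idx chevE8.Idx K) =
          _ from ChevOrder.coe_torusHom (D := chevE8) (F := K) c, dg] at e
        by_contra hw0
        exact h (hchi _ (Units.ext ((mul_eq_right₀ hw0).1 ((Matrix.mulVec_diagonal _ w _).symm.trans e))))
  · rw [Finset.card_disjSum, Finset.card_univ, Fintype.card_fin]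
    omega

/-- A permutation of order three with a small fixed set has few orbits. -/
theorem orbit_reps {W : ℕ → ℕ} (hlt : ∀ r < 240, W r < 240) (h3 : ∀ r < 240, W (W (W r)) = r)
    {f : ℕ} (hf : ((Finset.range 240).filter fun r => W r = r).card ≤ f) :
    ∃ R : Finset ℕ, R ⊆ Finset.range 240 ∧ 3 * R.card ≤ 240 + 2 * f ∧
      ∀ r < 240, r ∈ R ∨ W r ∈ R ∨ W (W r) ∈ R := by
  classical
  set Fx := (Finset.range 240).filter fun r => W r = r with hFx
  set R₀ := (Finset.range 240).filter fun r => r < W r ∧ r < W (W r) with hR₀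
  have hmin : ∀ r < 240, W r ≠ r → r ∈ R₀ ∨ W r ∈ R₀ ∨ W (W r) ∈ R₀ := by
    intro r hr hne
    have h1 := hlt r hr
    have h2 := hlt _ h1
    have e1 := h3 r hr
    have e2 := h3 _ h1
    have e3 := h3 _ h2
    have n1 : W (W r) ≠ r := fun e => hne (by rw [e] at e1; exact e1)
    have n2 : W (W r) ≠ W r := fun e => n1 (by rw [e] at e1; exact e1)
    simp only [hR₀, Finset.mem_filter, Finset.mem_range]
    rcases lt_or_gt_of_ne hne with a | a <;> rcases lt_or_gt_of_ne n1 with b | b <;>
      rcases lt_or_gt_of_ne n2 with c | c <;>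
      first
        | exact Or.inl ⟨hr, by omega, by omega⟩
        | exact Or.inr (Or.inl ⟨h1, by omega, by omega⟩)
        | exact Or.inr (Or.inr ⟨h2, by omega, by omega⟩)
  have hR₀m : ∀ r ∈ R₀, r < 240 ∧ r < W r ∧ r < W (W r) := fun r hr => by
    simpa [hR₀] using hr
  have hinj1 : Set.InjOn W R₀ := fun a ha b hb e => by
    rw [← h3 a (hR₀m a ha).1, e, h3 b (hR₀m b hb).1]
  have hinj2 : Set.InjOn (fun r => W (W r)) R₀ := fun a ha b hb e => by
    rw [← h3 a (hR₀m a ha).1, show W (W a) = W (W b) from e, h3 b (hR₀m b hb).1]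
  have hd1 : Disjoint R₀ (R₀.image W) := Finset.disjoint_left.2 fun a ha hb => by
    obtain ⟨b, hbR, rfl⟩ := Finset.mem_image.1 hb
    have := hR₀m b hbR
    have := hR₀m _ ha
    have := h3 b (hR₀m b hbR).1
    omega
  have hd2 : Disjoint (R₀ ∪ R₀.image W) (R₀.image fun r => W (W r)) := Finset.disjoint_left.2 fun a ha hb => by
    obtain ⟨b, hbR, rfl⟩ := Finset.mem_image.1 hb
    have hb3 := h3 b (hR₀m b hbR).1
    have hb4 := h3 _ (hlt b (hR₀m b hbR).1)
    have := hR₀m b hbR
    rcases Finset.mem_union.1 ha with ha | ha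
    · have := hR₀m _ ha
      rw [hb3] at this
      omega
    · obtain ⟨c, hc, e⟩ := Finset.mem_image.1 ha
      have := hR₀m c hc
      have : c = W b := by rw [← h3 c (hR₀m c hc).1, e, hb4]
      subst c
      rw [hb3] at this
      omega
  have hd3 : Disjoint Fx (R₀ ∪ R₀.image W ∪ R₀.image fun r => W (W r)) := Finset.disjoint_left.2 fun a ha hb => by
    have hfa : W a = a := (Finset.mem_filter.1 ha).2
    simp only [Finset.mem_union, Finset.mem_image] at hb
    rcases hb with (hbR | ⟨b, hbR, rfl⟩) | ⟨b, hbR, rfl⟩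
    · have := hR₀m a hbR; omega
    · have := hR₀m b hbR; have := h3 b (hR₀m b hbR).1; rw [hfa, hfa] at this; omega
    · have := hR₀m b hbR; have := h3 b (hR₀m b hbR).1; rw [hfa] at this; omega
  have hsub : Fx ∪ (R₀ ∪ R₀.image W ∪ R₀.image fun r => W (W r)) ⊆ Finset.range 240 := by
    intro a ha
    simp only [Finset.mem_union, Finset.mem_image] at ha
    rcases ha with ha | (ha | ⟨b, hb, rfl⟩) | ⟨b, hb, rfl⟩
    · exact Finset.filter_subset _ _ ha
    · exact Finset.mem_range.2 (hR₀m a ha).1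
    · exact Finset.mem_range.2 (hlt b (hR₀m b hb).1)
    · exact Finset.mem_range.2 (hlt _ (hlt b (hR₀m b hb).1))
  have hc := Finset.card_le_card hsub
  rw [Finset.card_union_of_disjoint hd3, Finset.card_union_of_disjoint hd2, Finset.card_union_of_disjoint hd1,
    Finset.card_image_of_injOn hinj1, Finset.card_image_of_injOn hinj2, Finset.card_range] at hc
  refine ⟨Fx ∪ R₀, Finset.union_subset (Finset.filter_subset _ _) (Finset.filter_subset _ _), ?_, fun r hr => ?_⟩
  · have := Finset.card_union_le Fx R₀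
    omega
  · by_cases hne : W r = r
    · exact Or.inl (Finset.mem_union_left _ (Finset.mem_filter.2 ⟨Finset.mem_range.2 hr, hne⟩))
    · rcases hmin r hr hne with h | h | h
      · exact Or.inl (Finset.mem_union_right _ h)
      · exact Or.inr (Or.inl (Finset.mem_union_right _ h))
      · exact Or.inr (Or.inr (Finset.mem_union_right _ h))

/-- An element of order three fixes a subspace of dimension at most 150. -/
theorem fix_bound [Fintype K] {ω : Kˣ} (hω : orderOf ω = 3) {x : G8 K} (hx : x ^ 3 = 1) (hne : x ≠ 1) :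
    Module.finrank K (fixS (rep K x)) ≤ 150 := by
  classical
  haveI : Fact (Nat.Prime 3) := ⟨Nat.prime_three⟩
  have hdvd : 3 ∣ Fintype.card K - 1 := by
    rw [← Fintype.card_units, ← hω]
    exact orderOf_dvd_card
  have hz : IsPGroup 3 (Subgroup.zpowers x) := by
    rintro ⟨_, i, rfl⟩
    refine ⟨1, Subtype.ext ?_⟩
    show (x ^ i) ^ 3 ^ 1 = 1
    rw [pow_one, ← zpow_natCast, ← zpow_mul, mul_comm, zpow_mul, zpow_natCast, hx, one_zpow]
  obtain ⟨c, -, hc⟩ := exists_conj_into (le_top : mon K ≤ ⊤) (monomial_index hdvd)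
    (le_top : Subgroup.zpowers x ≤ ⊤) hz
  obtain ⟨g, hg_eq⟩ : ∃ g, g = c * x * c⁻¹ := ⟨_, rfl⟩
  refine (fix_conj_le (rep K) c x).trans ?_
  rw [← hg_eq]
  have hg3 : g ^ 3 = 1 := by rw [hg_eq, conj_pow, hx, mul_one, mul_inv_cancel]
  have hg1 : g ≠ 1 := fun h => hne (conj_eq_one_iff.1 (hg_eq ▸ h))
  have hgN : (g : GL chevE8.Idx K) ∈ (chevRGD hgood rootsE8 K).N := by
    rw [chev_N hgood rootsE8]
    exact hg_eq ▸ Subgroup.mem_subgroupOf.1 (hc x (Subgroup.mem_zpowers x))
  set R := chevRGD hgood rootsE8 K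
  obtain ⟨h, hh, l, e⟩ := R.mem_N_iff.1 hgN
  by_cases hfix : ∀ r : Fin chevE8.nroots, R.ww l r = r
  · have hgH : (g : GL chevE8.Idx K) ∈ chevE8.diagonalSubgroup K := by
      rw [e]
      exact mul_mem hh (R.mem_H_of_pos fun r hr => by rwa [hfix r])
    obtain ⟨t, ht⟩ := (ChevOrder.torusHom_range (F := K) hgood).ge hgH
    have htg : tau K t = g := Subtype.ext ht
    rw [← htg] at hg3 hg1 ⊢
    exact (torus_fix hω hg3 hg1).trans (by norm_num)
  obtain ⟨b, hb⟩ := not_forall.1 hfix
  have h3e : (g : GL chevE8.Idx K) * g * g = 1 := by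
    have := congrArg Subtype.val hg3
    rw [pow_succ, pow_two, Subgroup.coe_mul, Subgroup.coe_mul] at this
    exact this
  have hnH : R.nw (l ++ l ++ l) ∈ chevE8.diagonalSubgroup K := by
    rw [RGD.RootData.nw_append, RGD.RootData.nw_append]
    have key : R.nw l * R.nw l * R.nw l =
        (h * (R.nw l * h * (R.nw l)⁻¹) * ((R.nw l * R.nw l) * h * (R.nw l * R.nw l)⁻¹))⁻¹ := by
      refine eq_inv_of_mul_eq_one_right ?_
      rw [← h3e, e]
      group
    rw [key]
    refine inv_mem (mul_mem (mul_mem hh (R.nw_conj_H l hh)) ?_)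
    rw [← RGD.RootData.nw_append]
    exact R.nw_conj_H (l ++ l) hh
  have hww : ∀ r, R.ww l (R.ww l (R.ww l r)) = r := fun r => by
    rw [← RGD.RootData.ww_append, ← RGD.RootData.ww_append]
    exact ChevOrder.ww_eq_self hgood rootsE8 hnH r
  have hlt : ∀ r < 240, wl chevE8 l r < 240 := fun r hr => wl_lt hgood rootsE8 l hr
  have hweq : ∀ r : Fin chevE8.nroots, (R.ww l r).val = wl chevE8 l r.val := wl_eq hgood rootsE8 l
  have h3' : ∀ r < 240, wl chevE8 l (wl chevE8 l (wl chevE8 l r)) = r := fun r hr => by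
    have := congrArg Fin.val (hww ⟨r, hr⟩)
    rwa [hweq, hweq, hweq] at this
  obtain ⟨S, hS, hScard, hScov⟩ := orbit_reps hlt h3' (fixed_le l h3' (b := b.val) b.isLt
    fun hbm => hb (Fin.ext (by rw [hweq]; exact hbm)))
  obtain ⟨t, ht⟩ := (ChevOrder.torusHom_range (F := K) hgood).ge hh
  have hcoord : ∀ r : Fin chevE8.nroots, ∃ η : K, η ≠ 0 ∧ ∀ v : chevE8.Idx → K,
      (rep K g v) (Sum.inr (R.ww l r)) = η * v (Sum.inr r) := by
    intro r
    obtain ⟨η, hη, hv⟩ := ChevOvergroup.nw_coord hgood rootsE8 (F := K) l r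
    refine ⟨(ChevOrder.chi t (R.ww l r).val : K) * η, mul_ne_zero (Units.ne_zero _) hη, fun v => ?_⟩
    refine (congrFun (rep_apply g v) _).trans ?_
    rw [e, Units.val_mul, ← Matrix.mulVec_mulVec, ← ht, ChevOrder.coe_torusHom, dg,
      Matrix.mulVec_diagonal, Sum.elim_inr, hv v, mul_assoc]
  let T : Finset (Fin 240) := Finset.univ.filter fun r => r.val ∈ S
  have hT : T.card ≤ S.card := Finset.card_le_card_of_injOn Fin.val (fun r hr => (Finset.mem_filter.1 hr).2)
    Fin.val_injective.injOn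
  refine (fix_le _ ((Finset.univ : Finset (Fin 8)).disjSum T) fun w hw h0 => ?_).trans ?_
  · have hstep : ∀ r : Fin chevE8.nroots, w (Sum.inr (R.ww l r)) = 0 → w (Sum.inr r) = 0 := by
      intro r hr
      obtain ⟨η, hη, hv⟩ := hcoord r
      exact (mul_eq_zero.1 ((hv w).symm.trans ((congrFun hw _).trans hr))).resolve_left hη
    funext a
    rcases a with i | r
    · exact h0 _ (Finset.inl_mem_disjSum.2 (Finset.mem_univ _))
    · have hin : ∀ q : Fin chevE8.nroots, q.val ∈ S → w (Sum.inr q) = 0 := fun q hq =>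
        h0 _ (Finset.inr_mem_disjSum.2 (Finset.mem_filter.2 ⟨Finset.mem_univ _, hq⟩))
      rcases hScov r.val r.isLt with h1 | h1 | h1
      · exact hin r h1
      · exact hstep r (hin _ ((hweq r).symm ▸ h1))
      · exact hstep r (hstep _ (hin _ (((hweq _).trans (congrArg _ (hweq r))).symm ▸ h1)))
  · rw [Finset.card_disjSum, Finset.card_univ, Fintype.card_fin]
    omega

end Cfsg.Agent.AltE8
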