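import Cfsg.Agent.Lib.AltE8.Seventeen
import Cfsg.Agent.Lib.AltE8.Monomial
import Cfsg.Agent.Lib.AltE8.Cover
import Cfsg.Agent.Lib.AltE8.Levels

/-!
# Alternating sections of the groups of type E8

* `no_eighteen`  : no section of degree eighteen away from characteristic three;
* `e8_alt_bound` : the bound.
-/

set_option autoImplicit false
set_option maxRecDepth 100000
set_option maxHeartbeats 1000000
set_option linter.style.haveILetI false

namespace Cfsg.Agent.AltE8

open Cfsg.Lie Cfsg.Lie.ChevalleyDatum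
open Equiv (Perm swap)
open Cfsg.Agent.AltE7 (mo mv toAlt)

/-- A translation, in the Sylow subgroup. -/
noncomputable def TS (v : V6) : SA := ⟨T (Multiplicative.ofAdd v), EA_le ⟨_, rfl⟩⟩

theorem TS_add (a b : V6) : TS (a + b) = TS a * TS b := Subtype.ext (by
  show T (Multiplicative.ofAdd (a + b)) = T (Multiplicative.ofAdd a) * T (Multiplicative.ofAdd b)
  rw [ofAdd_add, map_mul])

theorem TS_zero : TS 0 = 1 := Subtype.ext (by
  show T (Multiplicative.ofAdd (0 : V6)) = 1
  rw [ofAdd_zero, map_one])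

/-- The first shift, in the Sylow subgroup. -/
noncomputable def s1 : SA := ⟨sh1, sh1_mem⟩

/-- The second shift, in the Sylow subgroup. -/
noncomputable def s2 : SA := ⟨sh2, sh2_mem⟩

theorem s1_cube : s1 ^ 3 = 1 := Subtype.ext sh1_cube

theorem s2_cube : s2 ^ 3 = 1 := Subtype.ext sh2_cube

theorem s_comm : Commute s1 s2 := Subtype.ext sh_comm

/-- The group of shifts. -/
noncomputable def shifts (v : Fin 2 → ZMod 3) : SA := s1 ^ (v 0).val * s2 ^ (v 1).val

theorem pow_cast {G : Type*} [Monoid G] {x : G} (hx : x ^ 3 = 1) (n : ℕ) : x ^ ((n : ZMod 3)).val = x ^ n := by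
  rw [ZMod.val_natCast, ← pow_eq_pow_mod n hx]

theorem shifts_add (a b : Fin 2 → ZMod 3) : shifts (a + b) = shifts a * shifts b := by
  have h : ∀ (x : SA), x ^ 3 = 1 → ∀ p q : ZMod 3, x ^ (p + q).val = x ^ p.val * x ^ q.val := fun x hx p q => by
    rw [← pow_add, ← pow_cast hx (p.val + q.val), Nat.cast_add, ZMod.natCast_zmod_val, ZMod.natCast_zmod_val]
  simp only [shifts, Pi.add_apply, h s1 s1_cube, h s2 s2_cube]
  exact (s_comm.pow_pow _ _).mul_mul_mul_comm _ _

theorem T_conj' {σ : Perm (Fin 6)} {c : Fin 6 → (ZMod 3)ˣ} (h : Perm.sign (mo σ c) = 1) (v : V6) :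
    toAlt (mo σ c) h * (TS v : A18) * (toAlt (mo σ c) h)⁻¹ = (TS (mv σ c v) : A18) := T_conj h v

theorem s1_TS (v : V6) : s1 * TS v = TS (shift v) * s1 :=
  Subtype.ext (mul_inv_eq_iff_eq_mul.1 (T_conj' signs.1.1 v))

theorem s2_TS (v : V6) : s2 * TS v = TS (mv c2 (fl []) v) * s2 :=
  Subtype.ext (mul_inv_eq_iff_eq_mul.1 (T_conj' signs.1.2.1 v))

theorem can_six_ne : Pi.single (0 : Fin 6) (1 : ZMod 3) ≠ (0 : V6) := by decide

theorem four_orbit : ∀ χ : Fin 2 → ZMod 3, χ ≠ 0 →
    ([χ, ![2 * χ 1, χ 0], ![2 * χ 0, 2 * χ 1], ![χ 1, 2 * χ 0]] : List (Fin 2 → ZMod 3)).Nodup := by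
  decide +kernel

theorem quad_dot : ∀ u v : Fin 2 → ZMod 3, dot (![2 * u 1, u 0] : Fin 2 → ZMod 3) ![2 * v 1, v 0] = dot u v := by
  decide +kernel

theorem quad_inv : ∀ u : Fin 2 → ZMod 3,
    (![2 * (![2 * u 1, u 0] : Fin 2 → ZMod 3) 1, (![2 * u 1, u 0] : Fin 2 → ZMod 3) 0] : Fin 2 → ZMod 3) =
      ![2 * u 0, 2 * u 1] ∧
    (![2 * (![2 * u 0, 2 * u 1] : Fin 2 → ZMod 3) 1, (![2 * u 0, 2 * u 1] : Fin 2 → ZMod 3) 0] : Fin 2 → ZMod 3) =
      ![u 1, 2 * u 0] ∧
    (![2 * (![u 1, 2 * u 0] : Fin 2 → ZMod 3) 1, (![u 1, 2 * u 0] : Fin 2 → ZMod 3) 0] : Fin 2 → ZMod 3) = u := by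
  decide +kernel

theorem tvs_fix : ∀ j : Fin 3, shift (tvs j) = tvs j ∧ yvs j.succ = tvs j := by decide +kernel

theorem yval_tail (S : Fin 3 → ZMod 3) : ∀ j : Fin 3, yval S j.succ = S j := by
  intro j; fin_cases j <;> rfl

/-- The vectors with given products. -/
def sel {ι : Type} [Fintype ι] (vs : ι → V6) (c : ι → ZMod 3) : Finset V6 :=
  Finset.univ.filter fun u => ∀ i, dot u (vs i) = c i

theorem census_sel_all : census (sel (fun i : Fin 0 => i.elim0) (fun i : Fin 0 => i.elim0)) =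
    [1, 12, 60, 160, 240, 192, 64] := (congrArg census (by ext; simp [sel])).trans census_all

theorem census_sel_fix : census (sel (fun _ : Fin 1 => (Pi.single 0 1 : V6)) (fun _ : Fin 1 => 0)) =
    [1, 10, 40, 80, 80, 32, 0] := (congrArg census (by ext; simp [sel])).trans census_fix

theorem census_sel_y : census (sel yvs (yval tailA)) = [0, 0, 0, 1, 0, 6, 2] ∧
    census (sel yvs (yval tailB)) = [0, 0, 1, 0, 6, 2, 0] :=
  ⟨(congrArg census (by ext; simp [sel])).trans census_y.1, (congrArg census (by ext; simp [sel])).trans census_y.2⟩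

section Main

variable {K : Type} [Field K] [Fintype K]

omit [Fintype K] in
theorem three_ne_zero' {ω : Kˣ} (hω : orderOf ω = 3) : (3 : K) ≠ 0 := by
  intro h3
  have h1 : (ω : K) ^ 3 = 1 := by rw [← Units.val_pow_eq_pow_val, ← hω, pow_orderOf_eq_one]; rfl
  have h0 : ((ω : K) - 1) ^ 3 = 0 := by linear_combination h1 + ((ω : K) - (ω : K) ^ 2) * h3
  have : ω = 1 := Units.ext (sub_eq_zero.1 (eq_zero_of_pow_eq_zero h0))
  rw [this, orderOf_one] at hω
  omega

/-- No minimal cover of the alternating group of degree eighteen. -/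
theorem no_cover {ω : Kˣ} (hω : orderOf ω = 3) {H : Type} [Group H] [Finite H] (ι : H →* G8 K)
    (hι : Function.Injective ι) (π : H →* A18) (hm : AltE6.MinCover π) : False := by
  classical
  have hdvd : 3 ∣ Fintype.card K - 1 := by
    rw [← Fintype.card_units, ← hω]
    exact orderOf_dvd_card
  obtain ⟨s, hs, hfus⟩ := exists_sylow_lift hdvd ι hι π hm
  let rh : H →* Module.End K (chevE8.Idx → K) := (rep K).comp ι
  let W : Wt K (chevE8.Idx → K) 6 :=
    { ω := (ω : K)
      ω_cube := by rw [← Units.val_pow_eq_pow_val, ← hω, pow_orderOf_eq_one]; rfl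
      ω_ne := fun h => by
        rw [show ω = 1 from Units.ext h, orderOf_one] at hω
        omega
      three := three_ne_zero' hω
      ρ := fun v => rh (s (TS v))
      ρ_zero := by rw [TS_zero, map_one, map_one]
      ρ_add := fun a b => by rw [TS_add, map_mul, map_mul] }
  have hρ : ∀ v, W.ρ v = rh (s (TS v)) := fun _ => rfl
  have hinj : ∀ g : H, Function.Injective (rh g) := fun g a b h => by
    have := congrArg (rh g⁻¹) h
    rwa [← Module.End.mul_apply, ← Module.End.mul_apply, ← map_mul, inv_mul_cancel, map_one, Module.End.one_apply,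
      Module.End.one_apply] at this
  have happ : ∀ (g h : H) (x : chevE8.Idx → K), rh g (rh h x) = rh (g * h) x := fun g h x => by
    rw [map_mul, Module.End.mul_apply]
  -- conjugations
  have hconj : ∀ a : A18, ∃ g : H, ∀ (x y : SA), a * (x : A18) * a⁻¹ = (y : A18) →
      g * s x = s y * g := fun a => by
    obtain ⟨g, hg⟩ := hfus a
    refine ⟨g, fun x y h => ?_⟩
    have hy : (⟨a * x * a⁻¹, h ▸ y.2⟩ : SA) = y := Subtype.ext h
    exact mul_inv_eq_iff_eq_mul.1 ((hg x _).trans (congrArg s hy))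
  have hmono : ∀ (σ : Perm (Fin 6)) (c : Fin 6 → (ZMod 3)ˣ) (h : Perm.sign (mo σ c) = 1),
      ∃ g : H, (∀ v x, rh g (W.ρ v x) = W.ρ (mv σ c v) (rh g x)) ∧
        ∀ x y : SA, toAlt (mo σ c) h * (x : A18) * (toAlt (mo σ c) h)⁻¹ = (y : A18) →
          ∀ z, rh g (rh (s x) z) = rh (s y) (rh g z) := fun σ c h => by
    obtain ⟨g, hg⟩ := hconj (toAlt (mo σ c) h)
    have h2 : ∀ x y : SA, toAlt (mo σ c) h * (x : A18) * (toAlt (mo σ c) h)⁻¹ = (y : A18) →
        ∀ z, rh g (rh (s x) z) = rh (s y) (rh g z) := fun x y e z => by rw [happ, happ, hg x y e]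
    exact ⟨g, fun v x => h2 _ _ (T_conj' h v) x, h2⟩
  have hinv : ∀ (g : H) (f : V6 → V6), (∀ v x, rh g (W.ρ v x) = W.ρ (f v) (rh g x)) → ∀ (hf : Function.Bijective f),
      ∀ v x, rh g⁻¹ (W.ρ v x) = W.ρ ((Equiv.ofBijective f hf).symm v) (rh g⁻¹ x) := fun g f hg hf v x =>
    hinj g (by
      rw [hg, Equiv.ofBijective_apply_symm_apply f hf, happ g g⁻¹, happ g g⁻¹, mul_inv_cancel, map_one,
        Module.End.one_apply, Module.End.one_apply])
  -- dimensions depend on the level
  have hgen : ∀ a b k : Fin 6, a ≠ b → ∀ u, W.wn (mv (swap a b) (fl [k]) u) = W.wn u := by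
    intro a b k hab u
    obtain ⟨g, hg, -⟩ := hmono _ _ (sign_gen a b k hab)
    refine le_antisymm ?_ (W.wn_le (hinj g) (mv_bijective _ _).2 hg fun v => mv_dot _ _ u v)
    refine W.wn_le (hinj g⁻¹) (Equiv.surjective _) (hinv g _ hg (mv_bijective _ _)) fun v => ?_
    obtain ⟨w, rfl⟩ := (mv_bijective (swap a b) (fl [k])).2 v
    rw [Equiv.ofBijective_symm_apply_apply]
    exact (mv_dot _ _ _ _).symm
  obtain ⟨N, hN⟩ : ∃ N : Fin 7 → ℕ, N = fun l => W.wn (can l) := ⟨_, rfl⟩
  have hlev : ∀ u, W.wn u = N (lev u) := by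
    intro u
    induction hu : meas u using Nat.strong_induction_on generalizing u with
    | _ n ih =>
      rcases level_step u with h | ⟨a, b, k, hab, hl, hlt⟩
      · rw [hN, h]
        exact congrArg _ (congrArg can (congrArg lev h))
      · rw [← hgen a b k hab u, ih _ (hu ▸ hlt) _ rfl, hl]
  have hsum : ∀ J : Finset V6, ∑ u ∈ J, W.wn u = ∑ u ∈ J, N (lev u) := fun J => Finset.sum_congr rfl fun u _ => hlev u
  have hcond : ∀ {m : ℕ} (vs : Fin m → V6) (c : Fin m → ZMod 3),
      Module.finrank K (W.cond vs c) = ∑ u ∈ sel vs c, N (lev u) := fun vs c =>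
    (W.finrank_cond vs c).trans (hsum _)
  -- the total
  have htot : N 0 + 12 * N 1 + 60 * N 2 + 160 * N 3 + 240 * N 4 + 192 * N 5 + 64 * N 6 = 248 := by
    have h := hcond (fun i : Fin 0 => i.elim0) (fun i : Fin 0 => i.elim0)
    rw [sum_census, census_sel_all] at h
    have htop : W.cond (fun i : Fin 0 => i.elim0) (fun i : Fin 0 => i.elim0) = ⊤ :=
      eq_top_iff.2 fun x _ => W.mem_cond.2 fun i => i.elim0
    rw [htop, finrank_top, Module.finrank_fintype_fun_eq_card] at h
    have hc : Fintype.card chevE8.Idx = 248 := by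
      show Fintype.card (Fin 8 ⊕ Fin 240) = 248
      rw [Fintype.card_sum, Fintype.card_fin, Fintype.card_fin]
    simp only [List.getD_cons_zero, List.getD_cons_succ] at h
    omega
  -- an element of order three
  have hfix : N 0 + 10 * N 1 + 40 * N 2 + 80 * N 3 + 80 * N 4 + 32 * N 5 ≤ 150 := by
    have h := hcond (fun _ : Fin 1 => (Pi.single 0 1 : V6)) (fun _ : Fin 1 => 0)
    rw [sum_census, census_sel_fix] at h
    simp only [List.getD_cons_zero, List.getD_cons_succ] at h
    have he : W.cond (fun _ : Fin 1 => (Pi.single 0 1 : V6)) (fun _ : Fin 1 => 0) =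
        fixS (rep K (ι (s (TS (Pi.single 0 1))))) := by
      refine SetLike.ext fun x => ?_
      rw [W.mem_cond, mem_fixS]
      exact ⟨fun h => by have := h 0; rwa [W.z_zero, one_smul] at this, fun h _ => by rw [W.z_zero, one_smul]; exact h⟩
    have hb := fix_bound hω (x := ι (s (TS (Pi.single 0 1))))
      (by rw [← map_pow, ← map_pow, show TS (Pi.single 0 1) ^ 3 = 1 from Subtype.ext (T_cube _), map_one, map_one])
      (fun e => can_six_ne (by
        have h1 := hs (hι (e.trans (map_one ι).symm) |>.trans (map_one s).symm)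
        exact Multiplicative.ofAdd.injective (T_injective ((congrArg Subtype.val h1).trans (map_one T).symm))))
    rw [he] at h
    omega
  -- the shift
  let L : Module.End K (chevE8.Idx → K) := rh (s s1)
  have hL : ∀ v x, L (W.ρ v x) = W.ρ (shift v) (L x) := fun v x => by
    show rh (s s1) (rh (s (TS v)) x) = rh (s (TS (shift v))) (rh (s s1) x)
    rw [happ, happ, ← map_mul, ← map_mul, s1_TS]
  have hL3 : ∀ x, L (L (L x)) = x := fun x => by
    show rh (s s1) (rh (s s1) (rh (s s1) x)) = x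
    rw [happ, happ, ← map_mul, ← map_mul, mul_assoc, show s1 * (s1 * s1) = 1 by rw [← mul_assoc, ← pow_two, ← pow_succ, s1_cube],
      map_one, map_one, Module.End.one_apply]
  have hn6 : N 6 ≤ 3 := by omega
  -- the shifts are trivial on the weight space of the all-one vector
  have hone : ∀ x ∈ W.ws (can 6), L x = x := by
    have hp : ∀ t : SA, (∀ (f : V6 → V6), Function.Bijective f → (∀ u v, dot (f u) (f v) = dot u v) → f (can 6) = can 6 →
        (∀ v x, rh (s t) (W.ρ v x) = W.ρ (f v) (rh (s t) x)) → ∀ x ∈ W.ws (can 6), rh (s t) x ∈ W.ws (can 6)) :=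
      fun t f hf hd hfix hc x hx => W.map_ws hf.2 hc (fun v => by rw [← hd (can 6) v, hfix]) hx
    have h1 : ∀ x ∈ W.ws (can 6), rh (s s1) x ∈ W.ws (can 6) :=
      hp s1 shift (mv_bijective _ _) (mv_dot _ _) can_six.2.1 hL
    have h2 : ∀ x ∈ W.ws (can 6), rh (s s2) x ∈ W.ws (can 6) :=
      hp s2 (mv c2 (fl [])) (mv_bijective _ _) (mv_dot _ _) can_six.2.2 fun v x => by
        show rh (s s2) (rh (s (TS v)) x) = rh (s (TS (mv c2 (fl []) v))) (rh (s s2) x)
        rw [happ, happ, ← map_mul, ← map_mul, s2_TS]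
    have hpow : ∀ (t : SA), (∀ x ∈ W.ws (can 6), rh (s t) x ∈ W.ws (can 6)) → ∀ (n : ℕ),
        ∀ x ∈ W.ws (can 6), rh (s (t ^ n)) x ∈ W.ws (can 6) := by
      intro t ht n
      induction n with
      | zero => intro x hx; rwa [pow_zero, map_one, map_one, Module.End.one_apply]
      | succ n ih => intro x hx; rw [pow_succ, map_mul, ← happ]; exact ih _ (ht x hx)
    have hmem : ∀ v, ∀ x ∈ W.ws (can 6), rh (s (shifts v)) x ∈ W.ws (can 6) := fun v x hx => by
      rw [shifts, map_mul, ← happ]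
      exact hpow s1 h1 _ _ (hpow s2 h2 _ _ hx)
    let W2 : Wt K ↥(W.ws (can 6)) 2 :=
      { ω := W.ω
        ω_cube := W.ω_cube
        ω_ne := W.ω_ne
        three := W.three
        ρ := fun v => (rh (s (shifts v))).restrict (hmem v)
        ρ_zero := LinearMap.ext fun x => Subtype.ext (by
          show rh (s (shifts 0)) x.1 = x.1
          simp [shifts])
        ρ_add := fun a b => LinearMap.ext fun x => Subtype.ext (by
          show rh (s (shifts (a + b))) x.1 = rh (s (shifts a)) (rh (s (shifts b)) x.1)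
          rw [happ, ← map_mul, shifts_add]) }
    obtain ⟨g, hg, hg'⟩ := hmono c4 (fl []) signs.1.2.2
    let Lq : Module.End K ↥(W.ws (can 6)) := (rh g).restrict fun x hx =>
      W.map_ws (mv_bijective _ _).2 hg (u := can 6) (u' := can 6)
        (fun v => by conv_lhs => rw [← can_six.1]
                     exact mv_dot _ _ _ _) hx
    have hq : ∀ v x, Lq (W2.ρ v x) = W2.ρ ![2 * v 1, v 0] (Lq x) := fun v x => Subtype.ext (by
      show rh g (rh (s (shifts v)) x.1) = rh (s (shifts ![2 * v 1, v 0])) (rh g x.1)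
      refine hg' _ _ ?_ _
      have e1 : quadA * sh1 * quadA⁻¹ = sh2 := mul_inv_eq_iff_eq_mul.2 (toAlt_rel _ _ _ _ rel_quad_one)
      have e2 : quadA * sh2 * quadA⁻¹ = sh1 * sh1 := by
        have hc : Perm.sign (mo c1 (fl []) * mo c1 (fl [])) = 1 := by rw [map_mul, signs.1.1, one_mul]
        rw [mul_inv_eq_iff_eq_mul, sh1, toAlt_mul signs.1.1 signs.1.1 hc]
        exact toAlt_rel _ _ _ _ rel_quad_two
      show quadA * (sh1 ^ (v 0).val * sh2 ^ (v 1).val) * quadA⁻¹ = sh1 ^ (2 * v 1).val * sh2 ^ (v 0).val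
      rw [show quadA * (sh1 ^ (v 0).val * sh2 ^ (v 1).val) * quadA⁻¹ =
        (quadA * sh1 ^ (v 0).val * quadA⁻¹) * (quadA * sh2 ^ (v 1).val * quadA⁻¹) by group, ← conj_pow, ← conj_pow,
        e1, e2, ← pow_two, ← pow_mul, ← pow_cast sh1_cube (2 * (v 1).val), Nat.cast_mul, ZMod.natCast_zmod_val]
      exact ((show Commute sh1 sh2 from sh_comm).pow_pow _ _).symm.eq)
    have hLqi : Function.Injective Lq := fun a b h => Subtype.ext (hinj g (congrArg Subtype.val h))
    have hsurj : Function.Surjective fun v : Fin 2 → ZMod 3 => (![2 * v 1, v 0] : Fin 2 → ZMod 3) := fun v =>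
      ⟨![v 1, 2 * v 0], (quad_inv v).2.2⟩
    have hle : ∀ χ : Fin 2 → ZMod 3, W2.wn χ ≤ W2.wn ![2 * χ 1, χ 0] := fun χ =>
      W2.wn_le hLqi hsurj hq fun v => quad_dot χ v
    have hzero : ∀ χ : Fin 2 → ZMod 3, χ ≠ 0 → W2.wn χ = 0 := by
      intro χ hχ
      have h1 := hle χ
      have h2 := hle ![2 * χ 1, χ 0]
      have h3 := hle ![2 * χ 0, 2 * χ 1]
      have h4 := hle ![χ 1, 2 * χ 0]
      rw [(quad_inv χ).1] at h2
      rw [(quad_inv χ).2.1] at h3
      rw [(quad_inv χ).2.2] at h4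
      have htot2 := W2.finrank_cond (fun i : Fin 0 => i.elim0) (fun i : Fin 0 => i.elim0)
      have hle' : Module.finrank K ↥(W2.cond (fun i : Fin 0 => i.elim0) (fun i : Fin 0 => i.elim0)) ≤ N 6 := by
        rw [hN]
        exact Submodule.finrank_le _
      have h5 : ∑ u ∈ ([χ, ![2 * χ 1, χ 0], ![2 * χ 0, 2 * χ 1], ![χ 1, 2 * χ 0]] : List (Fin 2 → ZMod 3)).toFinset, W2.wn u ≤ 3 := by
        refine le_trans ?_ ((htot2 ▸ hle').trans hn6)
        exact Finset.sum_le_sum_of_subset fun u _ => Finset.mem_filter.2 ⟨Finset.mem_univ _, fun i => i.elim0⟩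
      rw [List.sum_toFinset _ (four_orbit χ hχ)] at h5
      simp only [List.map_cons, List.map_nil, List.sum_cons, List.sum_nil] at h5
      omega
    intro x hx
    have hfixed : W2.ρ ![1, 0] ⟨x, hx⟩ = ⟨x, hx⟩ := by
      conv_lhs => rw [← W2.sum_proj ⟨x, hx⟩]
      rw [map_sum]
      conv_rhs => rw [← W2.sum_proj ⟨x, hx⟩]
      refine Finset.sum_congr rfl fun u _ => ?_
      by_cases hu : u = 0
      · rw [W2.ρ_proj, hu, show dot (0 : Fin 2 → ZMod 3) ![1, 0] = 0 by simp [dot], W2.z_zero, one_smul]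
      · have : W2.ws u = ⊥ := Submodule.finrank_eq_zero.1 (hzero u hu)
        rw [show W2.proj u ⟨x, hx⟩ = 0 from (Submodule.mem_bot K).1 (this ▸ W2.proj_mem u ⟨x, hx⟩), map_zero]
    have h9 : rh (s (shifts ![1, 0])) x = x := congrArg Subtype.val hfixed
    have he : shifts ![1, 0] = s1 := by simp [shifts, ZMod.val_one]
    rw [he] at h9
    exact h9
  have hone' : ∀ x ∈ W.ws (mv (swap 3 4) (fl [0, 1, 2]) (can 6)), L x = x := by
    intro x hx
    obtain ⟨g, hg, hg'⟩ := hmono _ _ signs.2.1.2.2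
    have hb := mv_bijective (swap (3 : Fin 6) 4) (fl [0, 1, 2])
    have hy : rh g⁻¹ x ∈ W.ws (can 6) := W.map_ws (Equiv.surjective _) (hinv g _ hg hb) (fun v => by
      conv_rhs => rw [← (Equiv.ofBijective _ hb).apply_symm_apply v]
      exact (mv_dot _ _ _ _).symm) hx
    have e := hg' s1 s1 swap_rels.2.2.2.2.1 (rh g⁻¹ x)
    rw [show rh (s s1) (rh g⁻¹ x) = rh g⁻¹ x from hone _ hy, happ g, mul_inv_cancel, map_one, Module.End.one_apply] at e
    exact e.symm
  -- the grid
  have hgrid : ∀ S : Fin 3 → ZMod 3, Module.finrank K ↥(W.cond yvs (yval S)) =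
      Module.finrank K ↥(W.cond tvs S ⊓ LinearMap.eqLocus L LinearMap.id) := by
    intro S
    obtain ⟨g, hg⟩ := hconj gridA
    have hy : gridA * (TS ![1, 1, 1, 0, 0, 0] : A18) * gridA⁻¹ = (s1 : A18) := by
      rw [mul_inv_eq_iff_eq_mul]
      exact toAlt_rel signs.2.2 (AltE7.sign_tr odd_three _) signs.1.1 signs.2.2 rel_grid_diag
    have ht : ∀ j : Fin 3, gridA * (TS (tvs j) : A18) * gridA⁻¹ = (TS (tvs j) : A18) := fun j => by
      rw [mul_inv_eq_iff_eq_mul]
      refine toAlt_rel signs.2.2 (AltE7.sign_tr odd_three _) (AltE7.sign_tr odd_three _) signs.2.2 ?_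
      fin_cases j <;> exact rel_grid_tail _ (by decide)
    have e1 := hg _ _ hy
    have e2 := fun j => hg _ _ (ht j)
    refine le_antisymm
      (LinearMap.finrank_le_finrank_of_injective (f := (rh g).restrict fun x hx => ?_)
        fun a b h => Subtype.ext (hinj g (congrArg Subtype.val h)))
      (LinearMap.finrank_le_finrank_of_injective (f := (rh g⁻¹).restrict fun x hx => ?_)
        fun a b h => Subtype.ext (hinj g⁻¹ (congrArg Subtype.val h)))
    · have h := W.mem_cond.1 hx
      refine ⟨W.mem_cond.2 fun j => ?_, ?_⟩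
      · have hj := h j.succ
        rw [(tvs_fix j).2, yval_tail] at hj
        rw [hρ, happ, ← e2 j, ← happ, ← hρ, hj, map_smul]
      · have h0 := h 0
        show rh (s s1) (rh g x) = rh g x
        rw [happ, ← e1, ← happ]
        refine congrArg (rh g) (h0.trans ?_)
        rw [show yval S 0 = 0 from rfl, W.z_zero, one_smul]
    · obtain ⟨hc, hf⟩ := hx
      have hc' := W.mem_cond.1 hc
      refine W.mem_cond.2 fun i => hinj g ?_
      rw [map_smul, happ g g⁻¹, mul_inv_cancel, map_one, Module.End.one_apply]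
      induction i using Fin.cases with
      | zero =>
        rw [hρ, happ, show yvs 0 = ![1, 1, 1, 0, 0, 0] from rfl, e1, ← happ, happ g g⁻¹, mul_inv_cancel, map_one,
          Module.End.one_apply, show yval S 0 = 0 from rfl, W.z_zero, one_smul]
        exact hf
      | succ j =>
        rw [hρ, happ, (tvs_fix j).2, e2 j, ← happ, happ g g⁻¹, mul_inv_cancel, map_one, Module.End.one_apply, ← hρ,
          yval_tail]
        exact hc' j
  have hshift_dot : ∀ u v, dot (shift u) (shift v) = dot u v := mv_dot _ _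
  have hbij : Function.Bijective shift := mv_bijective _ _
  have upA := W.fix_upper hbij hL hshift_dot hL3 tvs tailA (repsUp tailA) (cover_reps _ (Or.inl rfl))
  have upB := W.fix_upper hbij hL hshift_dot hL3 tvs tailB (repsUp tailB) (cover_reps _ (Or.inr rfl))
  have loA := W.fix_lower hbij hL hshift_dot hL3 tvs tailA repsA repsA_ok.1 repsA_ok.2.1 fun r hr hrf x hx => by
    rcases repsA_ok.2.2 r hr hrf with h | h
    · exact hone x (h ▸ hx)
    · exact hone' x (h ▸ hx)
  have loB := W.fix_lower hbij hL hshift_dot hL3 tvs tailB repsB repsB_ok.1 repsB_ok.2.1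
    fun r hr hrf => absurd hrf (repsB_ok.2.2 r hr)
  have yA := hcond yvs (yval tailA)
  have yB := hcond yvs (yval tailB)
  rw [hgrid] at yA yB
  rw [hsum, sum_census] at upA upB loA loB
  rw [sum_census] at yA yB
  rw [census_reps.1] at upA
  rw [census_reps.2.1] at upB
  rw [census_reps.2.2.1] at loA
  rw [census_reps.2.2.2] at loB
  rw [census_sel_y.1] at yA
  rw [census_sel_y.2] at yB
  simp only [List.getD_cons_zero, List.getD_cons_succ] at upA upB loA loB yA yB
  rcases Nat.le_one_iff_eq_zero_or_eq_one.1 (show N 3 ≤ 1 by omega) with h3 | h3 <;>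
    rcases Nat.le_one_iff_eq_zero_or_eq_one.1 (show N 4 ≤ 1 by omega) with h4 | h4 <;>
      rcases Nat.le_one_iff_eq_zero_or_eq_one.1 (show N 5 ≤ 1 by omega) with h5 | h5 <;> omega

universe u

theorem dvd_two {F : Type u} [Field F] [Fintype F] {p : ℕ} [Fact p.Prime] [CharP F p] (hp : p ≠ 3) :
    3 ∣ Fintype.card F ^ 2 - 1 := by
  haveI : Fact (Nat.Prime 3) := ⟨Nat.prime_three⟩
  obtain ⟨n, hpr, hn⟩ := FiniteField.card F p
  have hpz : (p : ZMod 3) ≠ 0 := fun h0 =>
    hp ((Nat.prime_dvd_prime_iff_eq Nat.prime_three hpr).1 ((ZMod.natCast_eq_zero_iff p 3).1 h0)).symm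
  rw [← ZMod.natCast_eq_zero_iff, Nat.cast_sub (Nat.one_le_pow _ _ Fintype.card_pos), Nat.cast_pow, Nat.cast_one,
    hn, Nat.cast_pow, show (2 : ℕ) = 3 - 1 from rfl, ZMod.pow_card_sub_one_eq_one (pow_ne_zero _ hpz), sub_self]

/-- Alternating sections of E8. -/
theorem e8_alt_bound {F : Type u} [Field F] [Fintype F] (p : ℕ) [hp : Fact p.Prime] [CharP F p] (r : ℕ)
    {G : Type u} [Group G] (ι₀ : G →* ↥(chevE8.group F)) (hι₀ : Function.Injective ι₀)
    (φ : G →* alternatingGroup (Fin r)) (hφ : Function.Surjective φ) :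
    r ≤ 17 + (if p = 3 then 1 else 0) := by
  classical
  by_contra hr
  haveI : Finite G := Finite.of_injective ι₀ hι₀
  by_cases hp3 : p = 3
  · rw [if_pos hp3] at hr
    obtain ⟨H₁, ψ, hψ⟩ := ToralSection.exists_sub_section (show 19 ≤ r by omega) φ hφ
    exact no_nineteen (p := p) (by omega) (ι₀.comp H₁.subtype) (hι₀.comp H₁.subtype_injective) ψ hψ
  · rw [if_neg hp3] at hr
    obtain ⟨K, _, _, j, hK⟩ := ToralSection.exists_extension (F := F) p 2
    obtain ⟨i, hi⟩ := ToralSection.exists_hom_group (D := chevE8) hgood F j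
    let e := MonoidHom.ofInjective (show Function.Injective (i.comp ι₀) from hi.comp hι₀)
    let φ₁ : ↥(i.comp ι₀).range →* alternatingGroup (Fin r) := φ.comp e.symm.toMonoidHom
    have hφ₁ : Function.Surjective φ₁ := hφ.comp e.symm.surjective
    obtain ⟨H₁, ψ, hψ⟩ := ToralSection.exists_sub_section (show 6 * 3 ≤ r by omega) φ₁ hφ₁
    obtain ⟨L, χ, -, hχ, -⟩ := AltE6.exists_cover ψ ⊤ (T := ⊤) (by rw [Subgroup.map_top_of_surjective ψ hψ])
    let te : ↥(⊤ : Subgroup A18) ≃* A18 := Subgroup.topEquiv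
    have hm : AltE6.MinCover (te.toMonoidHom.comp χ) := ⟨te.surjective.comp hχ.surj, fun M hM => hχ.min M (by
      rw [← Subgroup.map_map] at hM
      exact Subgroup.map_injective (f := te.toMonoidHom) te.injective
        (hM.trans (Subgroup.map_top_of_surjective te.toMonoidHom te.surjective).symm))⟩
    haveI : Fact (Nat.Prime 3) := ⟨Nat.prime_three⟩
    obtain ⟨ω, hω⟩ := exists_prime_orderOf_dvd_card' (G := Kˣ) 3 (by
      rw [Nat.card_units, Nat.card_eq_fintype_card, hK]
      exact dvd_two (p := p) hp3)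
    exact no_cover hω ((i.comp ι₀).range.subtype.comp (H₁.subtype.comp L.subtype))
      (Subtype.val_injective.comp (Subtype.val_injective.comp Subtype.val_injective)) _ hm

end Main

end Cfsg.Agent.AltE8
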