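import Cfsg.Agent.Lib.AltE8.Coef

/-!
# The second and fourth moments of the table of type E8

* `moment_two`, `moment_four` : the moments; the fourth is checked on increasing indices only.
-/

set_option autoImplicit false
set_option maxRecDepth 100000

namespace Cfsg.Agent.AltE8

/-- An entry of a list of lists. -/
def ent (L : List (List ℤ)) (a b : ℕ) : ℤ := (L.getD a []).getD b 0

theorem moment_two : ∀ i j : Fin 8, (cartTab.map fun c => c.getD i.val 0 * c.getD j.val 0).sum = 60 * ent gram i.val j.val := by
  decide +kernel

/-- The fourth moment. -/
def mom (i j k l : Fin 8) : ℤ :=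
  300 * (cartTab.map fun c => c.getD i.val 0 * (c.getD j.val 0 * (c.getD k.val 0 * c.getD l.val 0))).sum

/-- Its value. -/
def pfaff (i j k l : Fin 8) : ℤ :=
  3600 * (ent gram i.val j.val * ent gram k.val l.val + ent gram i.val k.val * ent gram j.val l.val +
    ent gram i.val l.val * ent gram j.val k.val)

theorem moment_sorted : ∀ i j : Fin 8, i ≤ j → ∀ k : Fin 8, j ≤ k → ∀ l : Fin 8, k ≤ l → mom i j k l = pfaff i j k l := by
  decide +kernel

theorem gram_symm : ∀ i j : Fin 8, ent gram i.val j.val = ent gram j.val i.val := by decide +kernel

/-- The two sides agree at a quadruple. -/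
def Agree (i j k l : Fin 8) : Prop := mom i j k l = pfaff i j k l

theorem agree_12 {i j k l : Fin 8} (h : Agree j i k l) : Agree i j k l := by
  have e : mom i j k l = mom j i k l := by
    simp only [mom]
    congr 2
    exact List.map_congr_left fun c _ => mul_left_comm _ _ _
  rw [Agree, e, h, pfaff, pfaff, gram_symm j i]
  ring

theorem agree_23 {i j k l : Fin 8} (h : Agree i k j l) : Agree i j k l := by
  have e : mom i j k l = mom i k j l := by
    simp only [mom]
    congr 2
    exact List.map_congr_left fun c _ => by ring
  rw [Agree, e, h, pfaff, pfaff, gram_symm k j]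
  ring

theorem agree_34 {i j k l : Fin 8} (h : Agree i j l k) : Agree i j k l := by
  have e : mom i j k l = mom i j l k := by
    simp only [mom]
    congr 2
    exact List.map_congr_left fun c _ => by ring
  rw [Agree, e, h, pfaff, pfaff, gram_symm l k]
  ring

/-- The first index in any place. -/
theorem agree_insert {i j k l : Fin 8} (hjk : j ≤ k) (hkl : k ≤ l) : Agree i j k l := by
  rcases le_total i j with h | h
  · exact moment_sorted i j h k hjk l hkl
  refine agree_12 ?_
  rcases le_total i k with h' | h'
  · exact moment_sorted j i h k h' l hkl
  refine agree_23 ?_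
  rcases le_total i l with h'' | h''
  · exact moment_sorted j k hjk i h' l h''
  exact agree_34 (moment_sorted j k hjk l hkl i h'')

/-- The first two indices in any place. -/
theorem agree_insert_two {i j k l : Fin 8} (hkl : k ≤ l) : Agree i j k l := by
  rcases le_total j k with h | h
  · exact agree_insert h hkl
  refine agree_23 ?_
  rcases le_total j l with h' | h'
  · exact agree_insert h h'
  exact agree_34 (agree_insert hkl h')

theorem moment_four (i j k l : Fin 8) :
    300 * (cartTab.map fun c => c.getD i.val 0 * (c.getD j.val 0 * (c.getD k.val 0 * c.getD l.val 0))).sum =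
      3600 * (ent gram i.val j.val * ent gram k.val l.val + ent gram i.val k.val * ent gram j.val l.val +
        ent gram i.val l.val * ent gram j.val k.val) := by
  show Agree i j k l
  rcases le_total k l with h | h
  · exact agree_insert_two h
  · exact agree_34 (agree_insert_two h)

end Cfsg.Agent.AltE8
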