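import Cfsg.Agent.Lib.AltE8.Alcove
import Cfsg.Agent.Lib.AltE8.Torus
import Cfsg.Agent.Lib.AltE8.Perm

/-!
# No section of degree nineteen

* `no_nineteen` : away from characteristic seventeen no element of order seventeen of a section is conjugate to
  its cube.
-/

set_option autoImplicit false
set_option maxRecDepth 100000
set_option linter.style.haveILetI false

namespace Cfsg.Agent.AltE8

open Cfsg.Lie Cfsg.Lie.ChevalleyDatum Cfsg.Agent.Chev Cfsg.Agent.ChevBN Cfsg.Agent.ChevSt Cfsg.Agent.ChevLang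
  Cfsg.Agent.ToralSection

theorem wl_inj (l : List (Fin chevE8.rank)) {r t : ℕ} (hr : r < 240) (ht : t < 240)
    (h : wl chevE8 l r = wl chevE8 l t) : r = t := by
  have e := pairing_wl l hr ht
  rw [← h, hgood.pairing_self _ (wl_lt hgood rootsE8 l hr)] at e
  exact ((slRootsE8.eq r hr t ht).1 e.symm).symm

theorem range_map_wl (l : List (Fin chevE8.rank)) :
    (Multiset.range 240).map (wl chevE8 l) = Multiset.range 240 := by
  have himg : (Finset.range 240).image (wl chevE8 l) = Finset.range 240 := by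
    refine Finset.eq_of_subset_of_card_le (fun r hr => ?_) ?_
    · obtain ⟨t, ht, rfl⟩ := Finset.mem_image.1 hr
      exact Finset.mem_range.2 (wl_lt hgood rootsE8 l (Finset.mem_range.1 ht))
    · rw [Finset.card_image_of_injOn fun a ha b hb e =>
        wl_inj l (Finset.mem_range.1 ha) (Finset.mem_range.1 hb) e]
  have h := Finset.image_val_of_injOn (s := Finset.range 240) (f := wl chevE8 l) fun a ha b hb e =>
    wl_inj l (Finset.mem_range.1 ha) (Finset.mem_range.1 hb) e
  rw [himg] at h
  exact h.symm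

/-- No word has three as an eigenvalue modulo seventeen. -/
theorem no_eigen [Fact (Nat.Prime 17)] (l : List (Fin chevE8.rank)) :
    ¬ (17 : ℤ) ∣ (Matrix.scalar (Fin chevE8.rank) (3 : ℤ) - matOf chevE8.rank (colsOf chevE8 l)).det := by
  classical
  intro hd
  set A := matOf chevE8.rank (colsOf chevE8 l) with hA
  have hdet : ((Int.castRingHom (ZMod 17)).mapMatrix (Matrix.scalar (Fin chevE8.rank) (3 : ℤ) - A)).det = 0 := by
    rw [← RingHom.map_det]
    exact (ZMod.intCast_zmod_eq_zero_iff_dvd _ 17).2 hd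
  obtain ⟨v, hv, hv0⟩ := Matrix.exists_mulVec_eq_zero_iff.2 hdet
  have hev : ∀ j : Fin chevE8.rank, ∑ i, (A j i : ZMod 17) * v i = 3 * v j := by
    intro j
    have h := congrFun hv0 j
    simp only [Matrix.mulVec, dotProduct, RingHom.mapMatrix_apply, Matrix.map_apply, Matrix.sub_apply,
      Matrix.scalar_apply, Matrix.diagonal_apply, Int.coe_castRingHom, Int.cast_sub, sub_mul,
      Finset.sum_sub_distrib, Pi.zero_apply] at h
    rw [Finset.sum_eq_single j (fun i _ hi => by simp [hi.symm]) (by simp), if_pos rfl, Int.cast_ofNat,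
      sub_eq_zero] at h
    exact h.symm
  have hcol : ∀ (r : ℕ), r < 240 → ∀ i : Fin chevE8.rank,
      ∑ j : Fin chevE8.rank, (chevE8.cartan j.val (wl chevE8 l r) : ZMod 17) * (A j i : ZMod 17) =
        (chevE8.cartan i.val r : ZMod 17) := by
    intro r hr i
    rw [← colV_spec hgood rootsE8 l i hr, Int.cast_sum]
    refine Finset.sum_congr rfl fun j _ => ?_
    have e : (colsOf chevE8 l).getD i.val [] = colV chevE8 l i.val := by
      rw [colsOf, List.getD_eq_getElem _ _ (by simp), List.getElem_map, List.getElem_range]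
    rw [hA, matOf, Matrix.of_apply, e, Int.cast_mul, mul_comm]
  let lab : ℕ → ZMod 17 := fun r => ∑ j : Fin chevE8.rank, (chevE8.cartan j.val r : ZMod 17) * v j
  have hlab : ∀ r < 240, 3 * lab (wl chevE8 l r) = lab r := by
    intro r hr
    simp only [lab, Finset.mul_sum]
    calc ∑ j : Fin chevE8.rank, 3 * ((chevE8.cartan j.val (wl chevE8 l r) : ZMod 17) * v j)
        = ∑ j : Fin chevE8.rank, (chevE8.cartan j.val (wl chevE8 l r) : ZMod 17) * ∑ i, (A j i : ZMod 17) * v i :=
          Finset.sum_congr rfl fun j _ => by rw [hev j]; ring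
      _ = ∑ i : Fin chevE8.rank, (∑ j : Fin chevE8.rank,
            (chevE8.cartan j.val (wl chevE8 l r) : ZMod 17) * (A j i : ZMod 17)) * v i := by
          simp only [Finset.mul_sum, Finset.sum_mul]
          rw [Finset.sum_comm]
          exact Finset.sum_congr rfl fun i _ => Finset.sum_congr rfl fun j _ => by ring
      _ = _ := Finset.sum_congr rfl fun i _ => by rw [hcol r hr]
  have hM : (labM v).map (fun a => 3 * a) = labM v := by
    show ((Multiset.range 240).map lab).map (fun a => 3 * a) = (Multiset.range 240).map lab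
    conv_lhs => rw [← range_map_wl l]
    rw [Multiset.map_map, Multiset.map_map]
    exact Multiset.map_congr rfl fun r hr => hlab r (Multiset.mem_range.1 hr)
  refine hv (no_uniform fun j => ?_)
  conv_lhs => rw [← hM]
  exact Multiset.count_map_eq_count' _ _ (mul_right_injective₀ nums17.2.1) j

variable {F : Type*} [Field F] [Fintype F] {p : ℕ} [Fact p.Prime] [CharP F p]

theorem dvd_sixteen (hp : p ≠ 17) : 17 ∣ Fintype.card F ^ 16 - 1 := by
  haveI : Fact (Nat.Prime 17) := ⟨by norm_num⟩
  obtain ⟨n, hpr, hn⟩ := FiniteField.card F p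
  have hpz : (p : ZMod 17) ≠ 0 := fun h0 =>
    hp ((Nat.prime_dvd_prime_iff_eq (Fact.out : Nat.Prime 17) hpr).1 ((ZMod.natCast_eq_zero_iff p 17).1 h0)).symm
  rw [← ZMod.natCast_eq_zero_iff, Nat.cast_sub (Nat.one_le_pow _ _ Fintype.card_pos), Nat.cast_pow, Nat.cast_one,
    hn, Nat.cast_pow, show (16 : ℕ) = 17 - 1 from rfl, ZMod.pow_card_sub_one_eq_one (pow_ne_zero _ hpz), sub_self]

/-- No section of degree nineteen. -/
theorem no_nineteen (hp : p ≠ 17) {H : Type*} [Group H] [Finite H] (ι : H →* ↥(chevE8.group F))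
    (hι : Function.Injective ι) (φ : H →* alternatingGroup (Fin 19)) (hφ : Function.Surjective φ) : False := by
  haveI : Fact (Nat.Prime 17) := ⟨by norm_num⟩
  obtain ⟨x, a, hx, hax⟩ := alt_nineteen
  obtain ⟨K, _, _, f, hK⟩ := exists_extension (F := F) p 16
  obtain ⟨κ, hκ⟩ := exists_hom_group hgood F f
  obtain ⟨A, hW, hdvd⟩ := single (κ.comp ι) φ (fusion_chev hgood rootsE8 K)
    (index_not_dvd (K := K) (by norm_num) (hK ▸ dvd_sixteen (p := p) hp) (by decide))
    (hκ.comp hι) (hφ x) (hφ a) hx hax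
  obtain ⟨l, rfl⟩ := hW
  exact no_eigen l hdvd

end Cfsg.Agent.AltE8
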